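import Cfsg.Agent.U62Rec.S36.Basis

/-!
# The frame in the case of three planes and the fixed plane

A first frame gives the code of `u` up to three possibilities and with it a nonsingular vector of the
fixed plane fixed by the whole group; a frame through this vector fixes all codes.
-/

set_option autoImplicit false
set_option maxRecDepth 100000

namespace Cfsg.Agent.U62Rec.S36

open Act3 (el piece sumMap Inp ev Plane)

/-- The eigenspace of a coordinate. -/
def idR' (k : Fin 4) : Fin 14 := ![11, 12, 13, 0] k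

/-- The element moving the plane of a coordinate. -/
def oR (k : Fin 4) : Fin 4 := ![0, 1, 2, 0] k

theorem idR'_facts : Function.Injective idR' ∧
    (∀ k : Fin 4, k ≠ 3 → idR' k ≠ 0 ∧ dot (chr (idR' k)) (ev (oR k)) ≠ 0) := by decide +kernel

theorem gR_facts : ∀ k : Fin 4, ∀ j : Fin 3, ∀ g, g = ![gRR, gRA, gRB] j →
    (app g (u0 k) = (if dot (chr (idR' k)) (ev j.castSucc) = 0 then u0 k else
      if dot (chr (idR' k)) (ev j.castSucc) = dot (chr (idR' k)) (ev (oR k)) then u1 k
        else u0 k ^^^ u1 k) ∧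
    app g (u1 k) = (if dot (chr (idR' k)) (ev j.castSucc) = 0 then u1 k else
      if dot (chr (idR' k)) (ev j.castSucc) = dot (chr (idR' k)) (ev (oR k)) then u0 k ^^^ u1 k
        else u0 k)) := by
  intro k j g hg
  subst hg
  revert k j
  decide +kernel

theorem candF_facts : ∀ n ∈ [64, 128, 192], ∀ m ∈ [64, 128, 192],
    app (candF n m) 1 = 1 ∧ app (candF n m) 2 = 2 ∧ app (candF n m) 4 = 16 ∧ app (candF n m) 8 = 32 ∧
    app (candF n m) 16 = 4 ∧ app (candF n m) 32 = 12 ∧ app (candF n m) 64 = n ∧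
    app (candF n m) 128 = m ∧ candF n m < 2 ^ 64 := by decide +kernel

theorem fList_facts : ∀ F ∈ fList, app F 4 = 16 ∧ app F 8 = 32 ∧ app F (app F 4) = 4 ∧
    app F (app F 8) = 12 ∧ app F (app F 64) = 64 ∧ app F (app F 128) = 128 ∧
    app gRR 1 = 2 ∧ app gRR 4 = 4 ∧ app gRR 8 = 8 ∧ app gRR 64 = 64 ∧ app gRR 128 = 128 ∧
    ∀ v < 256, app F (app F (app F (app F v))) = v := by decide +kernel

theorem rfix_small : ∀ v < 256, app gRR (app gRR v) ^^^ app gRR v ^^^ v = 0 → v < 4 := by decide +kernel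

/-- The code of `u` in the case of three planes. -/
theorem R_unique {l F g : ℕ} (hl : l ∈ [63, 255]) (hF : F ∈ fList) (hg : IsCode g)
    (h : condC gRR gRA gRB F g = true) (hform : ∀ m < 256, ∀ n < 256,
      qv l (app g m) = qv l m ∧ fv (app g m) (app g n) = fv m n)
    (h1 : app g 1 = 1) : g ∈ solR l := by
  have h' := h
  simp only [condC, Bool.and_eq_true, Nat.beq_eq] at h'
  obtain ⟨⟨⟨⟨⟨⟨hr, hh⟩, hf⟩, -⟩, -⟩, -⟩, -⟩ := h'
  obtain ⟨f4, f8, hh4, hh8, hh64, hh128, r1, r4, r8, r64, r128, hF4⟩ := fList_facts F hF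
  have eH : ∀ v, app g (app F (app F v)) = app F (app F (app g v)) := fun v => by
    rw [← app_cmp F F, app_comm hh, app_cmp]
  have eR : ∀ v, app g (app gRR v) = app gRR (app g v) := fun v => app_comm hr v
  have hf' : ∀ v, app F (app g v) = app F (app F (app g (app F v))) := fun v => by
    have e := congrArg (fun c => app c v) hf
    simp only [app_cmp] at e
    rw [e, eH]
  have e2 : app g 2 = 2 := by rw [← r1, eR, h1]
  have hfix : ∀ v, app gRR v = v → app F (app F v) = v → app g v ∈ zList F := fun v hv hv' =>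
    List.mem_filter.2 ⟨List.mem_range.2 (app_lt _ _), by
      simp only [Bool.and_eq_true, Nat.beq_eq]
      exact ⟨by rw [← eR, hv], by rw [← eH, hv']⟩⟩
  have hb1 : app g 8 ∈ (List.range 256).filter (fun v =>
      Nat.beq (app gRR v) v && Nat.beq (app F (app F v)) (v ^^^ app g 4)) :=
    List.mem_filter.2 ⟨List.mem_range.2 (app_lt _ _), by
      simp only [Bool.and_eq_true, Nat.beq_eq]
      exact ⟨by rw [← eR, r8], by rw [← eH, hh8, ← app_xor]; rfl⟩⟩
  have e16 : app g 16 = app F (app F (app F (app g 4))) := by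
    have e := hf' 4
    rw [f4] at e
    rw [← hF4 _ (app_lt g 16), ← e]
  have e32 : app g 32 = app F (app F (app F (app g 8))) := by
    have e := hf' 8
    rw [f8] at e
    rw [← hF4 _ (app_lt g 32), ← e]
  have key : g = candR F (app g 4) (app g 8) (app g 64) (app g 128) := by
    conv_lhs => rw [eq_pack hg, h1, e2, e16, e32]
    rfl
  have q4 : qv l 4 = true ∧ qv l 8 = true ∧ fv 4 8 = true ∧ fv 64 128 = true ∧ fv 4 64 = false ∧
      fv 4 128 = false ∧ fv 8 64 = false ∧ fv 8 128 = false := by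
    simp only [List.mem_cons, List.not_mem_nil, or_false] at hl
    rcases hl with rfl | rfl <;> decide +kernel
  obtain ⟨p1, p2, p3, p4, p5, p6, p7, p8⟩ := q4
  have q := fun m hm => (hform m hm m hm).1
  have fm := fun m hm n hn => (hform m hm n hn).2
  have hok : okR l F (app g 4) (app g 8) (app g 64) (app g 128) = true := by
    simp only [okR, Bool.and_eq_true, Bool.not_eq_true', beq_iff_eq, ← key, h]
    refine ⟨⟨⟨⟨⟨⟨⟨⟨⟨⟨?_, ?_⟩, ?_⟩, ?_⟩, ?_⟩, ?_⟩, ?_⟩, ?_⟩, ?_⟩, ?_⟩, trivial⟩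
    · rw [q 4 (by norm_num), p1]
    · rw [q 8 (by norm_num), p2]
    · rw [fm 4 (by norm_num) 8 (by norm_num), p3]
    · rw [fm 64 (by norm_num) 128 (by norm_num), p4]
    · exact q 64 (by norm_num)
    · exact q 128 (by norm_num)
    · rw [fm 4 (by norm_num) 64 (by norm_num), p5]
    · rw [fm 4 (by norm_num) 128 (by norm_num), p6]
    · rw [fm 8 (by norm_num) 64 (by norm_num), p7]
    · rw [fm 8 (by norm_num) 128 (by norm_num), p8]
  rw [key]
  exact candR_check l hl F hF _ (hfix 4 r4 hh4) (by rw [q 4 (by norm_num), p1]) _ hb1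
    _ (hfix 64 r64 hh64) _ (hfix 128 r128 hh128) hok

variable {Q : Type*} [Group Q] {V : Type*} [AddCommGroup V] {R : Rep Q V} {r a b f u x : Q}

/-- The elements of the fixed plane. -/
theorem w_cases (A : Tri R (dd r a b)) (hc : Nat.card ↥(piece R (dd r a b) (chr 0)) = 4) {p q : V}
    (hp : p ∈ piece R (dd r a b) (chr 0)) (hq : q ∈ piece R (dd r a b) (chr 0)) (hB : R.B p q = true)
    {v : V} (hv : v ∈ piece R (dd r a b) (chr 0)) : v = 0 ∨ v = p ∨ v = q ∨ v = p + q := by
  classical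
  have hVf : Finite V := Nat.finite_of_card_ne_zero (by rw [R.card]; norm_num)
  have hp0 : p ≠ 0 := fun e => by rw [e, R.B_zero] at hB; cases hB
  have hq0 : q ≠ 0 := fun e => by rw [e, R.B_comm, R.B_zero] at hB; cases hB
  have hpq : p ≠ q := fun e => by rw [e, R.B_self] at hB; cases hB
  have hs : p + q ≠ 0 := fun e => hpq (by rw [add_eq_zero_iff_eq_neg, R.neg_eq] at e; exact e)
  have h1 : p + q ≠ p := fun e => hq0 (by simpa using e)
  have h2 : p + q ≠ q := fun e => hp0 (by simpa using e)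
  have hsub : ({0, p, q, p + q} : Set V) ⊆ piece R (dd r a b) (chr 0) := by
    rintro x (rfl | rfl | rfl | rfl)
    exacts [AddSubgroup.zero_mem _, hp, hq, AddSubgroup.add_mem _ hp hq]
  have hcard : ({0, p, q, p + q} : Set V).ncard = 4 := by
    rw [Set.ncard_insert_of_notMem (by simp [hp0.symm, hq0.symm, hs.symm]),
      Set.ncard_insert_of_notMem (by simp [hpq, h1.symm]), Set.ncard_pair h2.symm]
  have heq := Set.eq_of_subset_of_ncard_le hsub (by
    rw [hcard, ← Nat.card_coe_set_eq]; exact hc.le) (Set.toFinite _)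
  have : v ∈ ({0, p, q, p + q} : Set V) := heq ▸ hv
  simpa using this

/-- The vectors of a frame with given pair in the fixed plane. -/
def wR (R : Rep Q V) (f : Q) (w0 w1 p : V) : Fin 4 → V := ![w0, w1, R.act f w1, p]

/-- Their partners. -/
def yR (R : Rep Q V) (r a b f : Q) (w0 w1 q : V) : Fin 4 → V :=
  ![R.act r w0, R.act a w1, R.act b (R.act f w1), q]

/-- The vectors in the planes. -/
structure Start (R : Rep Q V) (r a b f u x : Q) (w0 w1 : V) : Prop where
  core : Core r a b f u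
  xr : x * r = r * r * x
  xu : x * u = u * x
  case : IsR R r a b
  m0 : w0 ∈ piece R (dd r a b) (chr 11)
  m1 : w1 ∈ piece R (dd r a b) (chr 12)
  n0 : w0 ≠ 0
  n1 : w1 ≠ 0
  x0 : R.act x w0 = w0
  f0 : R.act f w0 = w0
  h1 : R.act f (R.act f w1) = w1

theorem Start.planes {w0 w1 : V} (S : Start R r a b f u x w0 w1) :
    ∀ k : Fin 4, k ≠ 3 → Plane R (dd r a b) (idR' k) (oR k) := by
  obtain ⟨h11, h12, -⟩ := S.case
  have h13 : Nat.card ↥(piece R (dd r a b) (chr 13)) = 4 :=
    (f_card S.core (x := chr 12) (y := chr 13) (by decide +kernel) (by decide +kernel)).symm.trans h12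
  intro k hk
  refine ⟨(idR'_facts.2 k hk).1, ?_, (idR'_facts.2 k hk).2⟩
  fin_cases k
  exacts [h11, h12, h13, absurd rfl hk]

theorem Start.mem {w0 w1 : V} (S : Start R r a b f u x w0 w1) {p : V}
    (hp : p ∈ piece R (dd r a b) (chr 0)) :
    ∀ k, wR R f w0 w1 p k ∈ piece R (dd r a b) (chr (idR' k)) := by
  intro k
  fin_cases k
  exacts [S.m0, S.m1, f_mem S.core (x := chr 12) (by decide +kernel) S.m1, hp]

/-- A frame through a pair in the fixed plane. -/
theorem pass {w0 w1 : V} (S : Start R r a b f u x w0 w1) {p q : V}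
    (hp : p ∈ piece R (dd r a b) (chr 0)) (hq : q ∈ piece R (dd r a b) (chr 0))
    (hB : R.B p q = true) (hqq : R.q p = R.q q) :
    ∃ g, R.Frame (mkE (wR R f w0 w1 p) (yR R r a b f w0 w1 q)) (if R.q p then 255 else 63) ∧
      (∀ j : Fin 3, R.Moves (mkE (wR R f w0 w1 p) (yR R r a b f w0 w1 q)) (![gRR, gRA, gRB] j)
        (dd r a b j.castSucc)) ∧
      (∃ F ∈ fList, R.Moves (mkE (wR R f w0 w1 p) (yR R r a b f w0 w1 q)) F f) ∧
      g ∈ solR (if R.q p then 255 else 63) ∧
      R.Moves (mkE (wR R f w0 w1 p) (yR R r a b f w0 w1 q)) g u := by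
  have A : Tri R (dd r a b) := tri_of S.core
  set l := if R.q p then 255 else 63 with hl
  set w := wR R f w0 w1 p with hwdef
  set y := yR R r a b f w0 w1 q with hydef
  have hm := S.mem hp
  have P := S.planes
  have hn : ∀ k : Fin 4, k ≠ 3 → w k ≠ 0 := by
    intro k hk
    fin_cases k
    exacts [S.n0, S.n1, fun e => S.n1 (R.act_inj _ (e.trans (R.act_zero _).symm)), absurd rfl hk]
  have hy3 : ∀ k : Fin 4, k ≠ 3 → y k = R.act (dd r a b (oR k)) (w k) := by
    intro k hk
    fin_cases k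
    exacts [rfl, rfl, rfl, absurd rfl hk]
  have hy : ∀ k, y k ∈ piece R (dd r a b) (chr (idR' k)) := by
    intro k
    by_cases hk : k = 3
    · subst hk; exact hq
    · rw [hy3 k hk]; exact A.act_d_mem (hm k) _
  have hqv : ∀ k : Fin 4, k ≠ 3 → qv l (u0 k) = true ∧ qv l (u1 k) = true := by
    intro k hk; rw [hl]; revert k; cases R.q p <;> decide +kernel
  have hq3 : qv l (u0 3) = R.q p ∧ qv l (u1 3) = R.q p := by
    rw [hl]; cases R.q p <;> decide +kernel
  have Fr : R.Frame (mkE w y) l := by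
    refine frame_of A idR' idR'_facts.1 hm hy (fun k => ?_) (fun k => ?_) (fun k => ?_) <;>
      by_cases hk : k = 3
    · subst hk; exact hB
    · rw [hy3 k hk]; exact A.B_self_act (P k hk) (hm k) (hn k hk)
    · subst hk; exact hq3.1.symm
    · rw [A.q_true (P k hk) (hm k) (hn k hk), (hqv k hk).1]
    · subst hk; exact hqq.symm.trans hq3.2.symm
    · rw [hy3 k hk, R.q_act, A.q_true (P k hk) (hm k) (hn k hk), (hqv k hk).2]
  have hd : ∀ j : Fin 3, R.Moves (mkE w y) (![gRR, gRA, gRB] j) (dd r a b j.castSucc) := by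
    intro j
    refine moves_of R (fun k => ?_) (fun k => ?_) <;>
      obtain ⟨c1, c2⟩ := gR_facts k j _ rfl <;> by_cases hk : k = 3
    · subst hk
      rw [c1, if_pos (by revert j; decide), vec_u0]
      exact A.d_fix hp (by revert j; decide)
    · obtain ⟨h1, h2⟩ := d_act A (P k hk) (hm k) (hn k hk) j.castSucc
      rw [h1, c1, ← hy3 k hk]; split_ifs
      exacts [(vec_u0 w y k).symm, (vec_u1 w y k).symm, (vec_both R w y k).symm]
    · subst hk
      rw [c2, if_pos (by revert j; decide), vec_u1]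
      exact A.d_fix hq (by revert j; decide)
    · obtain ⟨h1, h2⟩ := d_act A (P k hk) (hm k) (hn k hk) j.castSucc
      rw [hy3 k hk, h2, c2, ← hy3 k hk]; split_ifs
      exacts [(vec_u1 w y k).symm, (vec_both R w y k).symm, (vec_u0 w y k).symm]
  -- the code of `f`
  have hW : ∀ v ∈ piece R (dd r a b) (chr 0), v ≠ 0 → ∃ n ∈ [64, 128, 192], vec (mkE w y) n = v := by
    intro v hv hv0
    rcases w_cases A S.case.2.2 hp hq hB hv with rfl | rfl | rfl | rfl
    · exact absurd rfl hv0
    · exact ⟨64, by simp, vec_u0 w y 3⟩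
    · exact ⟨128, by simp, vec_u1 w y 3⟩
    · exact ⟨192, by simp, vec_both R w y 3⟩
  have hpq : p ≠ 0 ∧ q ≠ 0 := ⟨fun e => (by rw [e, R.B_zero] at hB; cases hB),
    fun e => (by rw [e, R.B_comm, R.B_zero] at hB; cases hB)⟩
  have hfm : ∀ v, v ∈ piece R (dd r a b) (chr 0) → R.act f v ∈ piece R (dd r a b) (chr 0) :=
    fun v hv => f_mem S.core (fun t => by simp [chr, dot]) hv
  obtain ⟨n, hn', hfp⟩ := hW _ (hfm p hp) fun e => hpq.1 (R.act_inj _ (e.trans (R.act_zero _).symm))
  obtain ⟨m, hm', hfq⟩ := hW _ (hfm q hq) fun e => hpq.2 (R.act_inj _ (e.trans (R.act_zero _).symm))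
  obtain ⟨c1, c2, c4, c8, c16, c32, c64, c128, cc⟩ := candF_facts n hn' m hm'
  have hf : R.Moves (mkE w y) (candF n m) f := by
    refine moves_of R (fun k => ?_) (fun k => ?_) <;> fin_cases k
    · show R.act f w0 = vec (mkE w y) (app (candF n m) 1)
      rw [c1, S.f0]; exact (vec_u0 w y 0).symm
    · show R.act f w1 = vec (mkE w y) (app (candF n m) 4)
      rw [c4]; exact (vec_u0 w y 2).symm
    · show R.act f (R.act f w1) = vec (mkE w y) (app (candF n m) 16)
      rw [c16, S.h1]; exact (vec_u0 w y 1).symm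
    · show R.act f p = vec (mkE w y) (app (candF n m) 64)
      rw [c64, hfp]
    · show R.act f (R.act r w0) = vec (mkE w y) (app (candF n m) 2)
      rw [c2, ← R.act_mul, S.core.fr, R.act_mul, S.f0]; exact (vec_u1 w y 0).symm
    · show R.act f (R.act a w1) = vec (mkE w y) (app (candF n m) 8)
      rw [c8, ← R.act_mul, S.core.fa, R.act_mul]; exact (vec_u1 w y 2).symm
    · show R.act f (R.act b (R.act f w1)) = vec (mkE w y) (app (candF n m) 32)
      rw [c32, ← R.act_mul, S.core.fb, R.act_mul, S.h1, R.act_mul]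
      exact (A.twice (P 1 (by decide)) S.m1 S.n1).trans (vec_both R w y 1).symm
    · show R.act f q = vec (mkE w y) (app (candF n m) 128)
      rw [c128, hfq]
  have hFl : candF n m ∈ fList := by
    refine List.mem_filter.2 ⟨List.mem_flatMap.2 ⟨n, hn', List.mem_map.2 ⟨m, hm', rfl⟩⟩, ?_⟩
    simp only [Bool.and_eq_true, Bool.not_eq_true', ← Bool.not_eq_true, Nat.beq_eq, c64, c128]
    refine ⟨fun e => ?_, Fr.moves_unique (isCode_cmp _ _) isCode_idm
      (R.moves_mul (R.moves_mul hf hf) (R.moves_mul hf hf)) (S.core.f4 ▸ R.moves_one _)⟩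
    have hpq' : p ≠ q := fun e' => by rw [e', R.B_self] at hB; cases hB
    exact hpq' (R.act_inj f (by rw [← hfp, ← hfq, e]))
  -- the code of `u`
  obtain ⟨g, hgc, hg⟩ := Fr.exists_code u
  refine ⟨g, Fr, hd, ⟨_, hFl, hf⟩, ?_, hg⟩
  have hcond : condC gRR gRA gRB (candF n m) g = true := condC_of S.core Fr (hd 0) (hd 1) (hd 2) hf hg
  refine R_unique (by rw [hl]; cases R.q p <;> simp) hFl hgc hcond
    (fun s hs t ht => code_form Fr hg hs ht) ?_
  have h' := hcond
  simp only [condC, Bool.and_eq_true, Nat.beq_eq] at h'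
  have hr := h'.1.1.1.1.1.1
  have hlt : app g 1 < 4 := rfix_small _ (app_lt _ _) (by
    rw [← app_comm hr, ← app_comm hr, ← app_xor, ← app_xor,
      show app gRR (app gRR 1) ^^^ app gRR 1 ^^^ 1 = 0 by decide +kernel, app_zero])
  have e1 : R.act u w0 = vec (mkE w y) (app g 1) := by
    rw [← R.moves_vec hg 1 (by norm_num)]
    exact congrArg (R.act u) (vec_u0 w y 0).symm
  have hx : R.act x (R.act u w0) = R.act u w0 := by rw [← R.act_mul, S.xu, R.act_mul, S.x0]
  have hne : app g 1 ≠ 0 := fun e => S.n0 (by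
    rw [e, vec_zero] at e1; exact R.act_inj u (e1.trans (R.act_zero _).symm))
  have hxy : R.act x (R.act r w0) = w0 + R.act r w0 :=
    (x_move S.core.r3 S.xr (v := w0) (by rw [S.x0]; exact A.twice (P 0 (by decide)) S.m0 S.n0)).trans
      (by rw [S.x0])
  have hneq : R.act r w0 ≠ w0 := A.moved_ne (P 0 (by decide)) S.m0 S.n0
  have cases3 : app g 1 = 1 ∨ app g 1 = 2 ∨ app g 1 = 3 := by omega
  rcases cases3 with e | e | e
  · exact e
  · exfalso
    have e' : R.act u w0 = R.act r w0 := by rw [e1, e]; exact vec_u1 w y 0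
    rw [e', hxy] at hx
    exact S.n0 (by simpa using hx)
  · exfalso
    have e' : R.act u w0 = w0 + R.act r w0 := by rw [e1, e]; exact vec_both R w y 0
    rw [e', R.act_add, S.x0, hxy, ← add_assoc, R.two, zero_add] at hx
    exact S.n0 (by simpa using hx.symm)

/-- A frame in which the codes of `f` and `u` are known. -/
theorem baseR {w0 w1 : V} (S : Start R r a b f u x w0 w1) :
    ∃ s ∈ piece R (dd r a b) (chr 0), ∃ z' ∈ piece R (dd r a b) (chr 0), R.B s z' = true ∧
      z' = R.act u (R.act a w1) + R.act a w1 + R.act f w1 ∧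
      R.Frame (mkE (wR R f w0 w1 s) (yR R r a b f w0 w1 (s + z'))) (if R.q s then 255 else 63) ∧
      (∀ j : Fin 3, R.Moves (mkE (wR R f w0 w1 s) (yR R r a b f w0 w1 (s + z'))) (![gRR, gRA, gRB] j)
        (dd r a b j.castSucc)) ∧
      R.Moves (mkE (wR R f w0 w1 s) (yR R r a b f w0 w1 (s + z'))) gRF f ∧
      R.Moves (mkE (wR R f w0 w1 s) (yR R r a b f w0 w1 (s + z'))) gRU u ∧ R.act u w1 = w1 := by
  have C := S.core
  have A : Tri R (dd r a b) := tri_of C
  have h0 := S.case.2.2
  -- first pair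
  obtain ⟨p', hp', hp'0⟩ : ∃ p ∈ piece R (dd r a b) (chr 0), p ≠ 0 := by
    by_contra h
    push Not at h
    rw [(AddSubgroup.eq_bot_iff_forall _).2 h, AddSubgroup.card_bot] at h0
    omega
  obtain ⟨q', hq', hB'⟩ := A.exists_partner hp' hp'0
  obtain ⟨p, hp, q, hq, hB, hqq⟩ : ∃ p ∈ piece R (dd r a b) (chr 0), ∃ q ∈ piece R (dd r a b) (chr 0),
      R.B p q = true ∧ R.q p = R.q q := by
    by_cases h : R.q p' = R.q q'
    · exact ⟨p', hp', q', hq', hB', h⟩
    cases e : R.q p' with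
    | false =>
      refine ⟨p', hp', p' + q', add_mem hp' hq', by rw [R.B_add', R.B_self, hB']; rfl, ?_⟩
      rw [e] at h
      rw [R.q_add, hB', e, Bool.eq_true_of_not_eq_false (fun e' => h e'.symm)]; rfl
    | true =>
      refine ⟨q', hq', p' + q', add_mem hp' hq', by rw [R.B_add', R.B_self, R.B_comm, hB']; rfl, ?_⟩
      rw [e] at h
      rw [R.q_add, hB', e, Bool.eq_false_of_not_eq_true (fun e' => h e'.symm)]; rfl
  obtain ⟨g, Fr, -, -, hgs, hg⟩ := pass S hp hq hB hqq
  -- the distinguished vector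
  set z' := R.act u (R.act a w1) + R.act a w1 + R.act f w1 with hz'
  have hzv : ∀ {p q : V} {g : ℕ}, R.Moves (mkE (wR R f w0 w1 p) (yR R r a b f w0 w1 q)) g u →
      vec (mkE (wR R f w0 w1 p) (yR R r a b f w0 w1 q)) (app g 8 ^^^ 24) = z' := by
    intro p q g hg
    rw [show (24 : ℕ) = 8 ^^^ 16 by decide, R.vec_xor, R.vec_xor, ← R.moves_vec hg 8 (by norm_num)]
    have e8 : vec (mkE (wR R f w0 w1 p) (yR R r a b f w0 w1 q)) 8 = R.act a w1 := vec_u1 _ _ 1
    have e16 : vec (mkE (wR R f w0 w1 p) (yR R r a b f w0 w1 q)) 16 = R.act f w1 := vec_u0 _ _ 2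
    rw [e8, e16, hz', ← add_assoc]
  have hll : (if R.q p then 255 else 63) ∈ [63, 255] := by cases R.q p <;> simp
  obtain ⟨hn, hnq, -, -, -⟩ := solR_facts _ hll g hgs
  have hzW : z' ∈ piece R (dd r a b) (chr 0) := by
    rw [← hzv hg]
    simp only [List.mem_cons, List.not_mem_nil, or_false] at hn
    rcases hn with e | e | e <;> rw [e]
    · exact (vec_u0 (wR R f w0 w1 p) (yR R r a b f w0 w1 q) 3).symm ▸ hp
    · exact (vec_u1 (wR R f w0 w1 p) (yR R r a b f w0 w1 q) 3).symm ▸ hq
    · exact (vec_both R (wR R f w0 w1 p) (yR R r a b f w0 w1 q) 3).symm ▸ add_mem hp hq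
  have hzq : R.q z' = true := by
    rw [← hzv hg, q_vec Fr _ (Nat.xor_lt_two_pow (n := 8) (app_lt _ _) (by norm_num)), hnq]
  have hz0 : z' ≠ 0 := fun e => by
    have h := R.q_add (0 : V) 0
    rw [add_zero, R.B_self, Bool.xor_false, Bool.xor_self, ← e, hzq] at h
    cases h
  -- second pair
  obtain ⟨s, hs, hBs⟩ := A.exists_partner hzW hz0
  have hBs' : R.B s z' = true := by rw [R.B_comm, hBs]
  obtain ⟨g2, Fr2, hd2, ⟨F2, hF2, hf2⟩, hgs2, hg2⟩ := pass S hs (add_mem hs hzW)
    (q := s + z') (by rw [R.B_add', R.B_self, hBs']; rfl)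
    (by rw [R.q_add, hzq, hBs']; cases R.q s <;> rfl)
  set w := wR R f w0 w1 s with hwdef
  set y := yR R r a b f w0 w1 (s + z') with hydef
  have hll2 : (if R.q s then 255 else 63) ∈ [63, 255] := by cases R.q s <;> simp
  obtain ⟨-, -, hg4, hg16, hU⟩ := solR_facts _ hll2 g2 hgs2
  have hvz : vec (mkE w y) 192 = z' := by
    rw [show (192 : ℕ) = u0 3 ^^^ u1 3 by decide +kernel, vec_both R]
    show s + (s + z') = z'
    rw [← add_assoc, R.two, zero_add]
  have hgU : g2 = gRU := hU (Fr2.vec_inj (Nat.xor_lt_two_pow (n := 8) (app_lt _ _) (by norm_num))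
    (by norm_num) ((hzv hg2).trans hvz.symm))
  have hFeq : F2 = gRF := by
    have hc : IsCode F2 := by
      obtain ⟨n', hn', h2⟩ := List.mem_flatMap.1 (List.mem_filter.1 hF2).1
      obtain ⟨m', hm', rfl⟩ := List.mem_map.1 h2
      exact (candF_facts n' hn' m' hm').2.2.2.2.2.2.2.2
    rw [word_code C Fr2 hc (hd2 1) (hd2 2) hf2 hg2, hgU]
    exact gRF_word.1
  have huw1 : R.act u w1 = w1 := by
    have e := R.moves_vec hg2 4 (by norm_num)
    rw [hg4, show vec (mkE w y) 4 = w1 from vec_u0 w y 1] at e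
    exact e
  exact ⟨s, hs, z', hzW, hBs', hz', Fr2, hd2, hFeq ▸ hf2, hgU ▸ hg2, huw1⟩

/-- The code of `x` in such a frame. -/
theorem moveX_R {x' : Q} {w0 w1 : V} (S : Start R r a b f u x' w0 w1) (O : Out r a b f u x)
    (x0 : R.act x w0 = w0) (x1 : R.act x w1 = w1) {s z' : V} (hs : s ∈ piece R (dd r a b) (chr 0))
    (hzW : z' ∈ piece R (dd r a b) (chr 0)) (hBs' : R.B s z' = true)
    (hz' : z' = R.act u (R.act a w1) + R.act a w1 + R.act f w1) (huw1 : R.act u w1 = w1) :
    ∃ cx ∈ [gRX0, gRX1], R.Moves (mkE (wR R f w0 w1 s) (yR R r a b f w0 w1 (s + z'))) cx x := by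
  have C := S.core
  have A : Tri R (dd r a b) := tri_of C
  obtain ⟨h11, h12, h0⟩ := S.case
  have P0 : Plane R (dd r a b) 11 0 := ⟨by decide, h11, by decide⟩
  have P1 : Plane R (dd r a b) 12 1 := ⟨by decide, h12, by decide⟩
  have m0 := S.m0; have m1 := S.m1; have n0 := S.n0; have n1 := S.n1; have h1 := S.h1
  have hxm : ∀ i : Fin 14, (∀ t, dot (chr i) (xsig t) = 0 ↔ dot (chr i) t = 0) → ∀ v ∈ piece R (dd r a b) (chr i),
      R.act x v ∈ piece R (dd r a b) (chr i) := fun i hi v hv => x_mem C O hi hv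
  set w := wR R f w0 w1 s with hwdef
  set y := yR R r a b f w0 w1 (s + z') with hydef
  -- the outer element
  have hxy1 : R.act x (R.act a w1) = w1 + R.act a w1 :=
    (x_move C.a3 O.xa (v := w1) (by rw [x1]; exact A.twice P1 m1 n1)).trans (by rw [x1])
  have hxw2 : R.act x (R.act f w1) = R.act f w1 := by
    rw [← R.act_mul, O.xf, R.act_mul, x1, R.act_mul, R.act_mul, h1]
  have hxz : R.act x z' = z' := by
    rw [hz', R.act_add, R.act_add, hxy1, hxw2, ← R.act_mul, O.xu, R.act_mul, hxy1, R.act_add, huw1]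
    have e : ∀ t : V, w1 + t + (w1 + R.act a w1) = t + R.act a w1 + (w1 + w1) := fun t => by abel
    rw [e, R.two, add_zero]
  have hxs : R.act x s = s ∨ R.act x s = s + z' := by
    have hB2 : R.B (R.act x s) z' = true := by rw [← hxz, R.B_act, hBs']
    rcases w_cases A h0 hs hzW hBs' (hxm 0 (fun t => by simp [chr, dot]) s hs) with e | e | e | e
    · rw [e, R.B_zero] at hB2; cases hB2
    · exact Or.inl e
    · rw [e, R.B_self] at hB2; cases hB2
    · exact Or.inr e
  obtain ⟨cx, hcx, hX⟩ : ∃ cx, ((cx = gRX0 ∧ R.act x s = s) ∨ (cx = gRX1 ∧ R.act x s = s + z')) ∧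
      R.Moves (mkE w y) cx x := by
    have hxy2 : R.act x (R.act b (R.act f w1)) = R.act b (R.act f w1) := by
      rw [← R.act_mul, O.xb, R.act_mul, hxw2]
    have hxy0 : R.act x (R.act r w0) = w0 + R.act r w0 :=
      (x_move C.r3 O.xr (v := w0) (by rw [x0]; exact A.twice P0 m0 n0)).trans (by rw [x0])
    have tab : (app gRX0 1 = 1 ∧ app gRX0 2 = 3 ∧ app gRX0 4 = 4 ∧ app gRX0 8 = 12 ∧
        app gRX0 16 = 16 ∧ app gRX0 32 = 32 ∧ app gRX0 64 = 64 ∧ app gRX0 128 = 128) ∧
        (app gRX1 1 = 1 ∧ app gRX1 2 = 3 ∧ app gRX1 4 = 4 ∧ app gRX1 8 = 12 ∧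
        app gRX1 16 = 16 ∧ app gRX1 32 = 32 ∧ app gRX1 64 = 128 ∧ app gRX1 128 = 64) := by
      decide +kernel
    have gen : ∀ cx, app cx 1 = 1 → app cx 2 = 3 → app cx 4 = 4 → app cx 8 = 12 → app cx 16 = 16 →
        app cx 32 = 32 → R.act x s = vec (mkE w y) (app cx 64) →
        R.act x (s + z') = vec (mkE w y) (app cx 128) → R.Moves (mkE w y) cx x := by
      intro cx t1 t2 t4 t8 t16 t32 t64 t128
      refine moves_of R (fun k => ?_) (fun k => ?_) <;> fin_cases k
      · show R.act x w0 = vec (mkE w y) (app cx 1)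
        rw [t1, x0]; exact (vec_u0 w y 0).symm
      · show R.act x w1 = vec (mkE w y) (app cx 4)
        rw [t4, x1]; exact (vec_u0 w y 1).symm
      · show R.act x (R.act f w1) = vec (mkE w y) (app cx 16)
        rw [t16, hxw2]; exact (vec_u0 w y 2).symm
      · exact t64
      · show R.act x (R.act r w0) = vec (mkE w y) (app cx 2)
        rw [t2, hxy0]; exact (vec_both R w y 0).symm
      · show R.act x (R.act a w1) = vec (mkE w y) (app cx 8)
        rw [t8, hxy1]; exact (vec_both R w y 1).symm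
      · show R.act x (R.act b (R.act f w1)) = vec (mkE w y) (app cx 32)
        rw [t32, hxy2]; exact (vec_u1 w y 2).symm
      · exact t128
    obtain ⟨⟨a1, a2, a3, a4, a5, a6, a7, a8⟩, b1, b2, b3, b4, b5, b6, b7, b8⟩ := tab
    rcases hxs with e | e
    · refine ⟨gRX0, Or.inl ⟨rfl, e⟩, gen _ a1 a2 a3 a4 a5 a6 ?_ ?_⟩
      · rw [a7, e]; exact (vec_u0 w y 3).symm
      · rw [a8, R.act_add, e, hxz]; exact (vec_u1 w y 3).symm
    · refine ⟨gRX1, Or.inr ⟨rfl, e⟩, gen _ b1 b2 b3 b4 b5 b6 ?_ ?_⟩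
      · rw [b7, e]; exact (vec_u1 w y 3).symm
      · rw [b8, R.act_add, e, hxz, add_assoc, R.two, add_zero]; exact (vec_u0 w y 3).symm
  exact ⟨cx, by rcases hcx with ⟨rfl, -⟩ | ⟨rfl, -⟩ <;> simp, hX⟩

/-- Three planes and the fixed plane. -/
theorem frame_R (C : Core r a b f u) (O : Out r a b f u x) (hR : IsR R r a b) :
    ∃ c ∈ cfgs, ∃ e, R.Frame e c.2 ∧ List.Forall₂ (R.Moves e) c.1 [r, a, b, u, x] := by
  have A : Tri R (dd r a b) := tri_of C
  obtain ⟨h11, h12, h0⟩ := hR
  have P0 : Plane R (dd r a b) 11 0 := ⟨by decide, h11, by decide⟩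
  have P1 : Plane R (dd r a b) 12 1 := ⟨by decide, h12, by decide⟩
  have hxm : ∀ i : Fin 14, (∀ t, dot (chr i) (xsig t) = 0 ↔ dot (chr i) t = 0) → ∀ v ∈ piece R (dd r a b) (chr i),
      R.act x v ∈ piece R (dd r a b) (chr i) := fun i hi v hv => x_mem C O hi hv
  have hxx : ∀ v, R.act x (R.act x v) = v := fun v => by rw [← R.act_mul, O.sq, R.act_one]
  obtain ⟨w0, m0, n0, x0⟩ := A.exists_fixed P0 (x := x) (hxm 11 (by decide +kernel)) (fun v _ => hxx v)
  obtain ⟨w1, m1, n1, x1⟩ := A.exists_fixed P1 (x := x) (hxm 12 (by decide +kernel)) (fun v _ => hxx v)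
  have hf11 : ∀ v ∈ piece R (dd r a b) (chr 11), R.act f v ∈ piece R (dd r a b) (chr 11) :=
    fun v hv => f_mem C (x := chr 11) (by decide +kernel) hv
  have hff : ∀ v ∈ piece R (dd r a b) (chr 11), R.act f (R.act f v) = v := fun v hv => by
    rw [← R.act_mul]
    refine A.invol_id P0 (x := f * f) hv (fun w hw => by rw [R.act_mul]; exact hf11 _ (hf11 _ hw))
      (fun w _ => by rw [← R.act_mul, C.f4, R.act_one]) fun w _ => R.act_comm ?_ w
    show Commute (f * f) r
    exact (show Commute f r from C.fr).mul_left C.fr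
  have f0 : R.act f w0 = w0 := A.invol_id P0 m0 hf11 hff fun w _ => R.act_comm C.fr w
  have h1 : R.act f (R.act f w1) = w1 := by
    have hxh : x * (f * f) = f * f * x := by
      calc x * (f * f) = x * f * f := by group
        _ = f * f * f * x * f := by rw [O.xf]
        _ = f * f * f * (x * f) := by group
        _ = f * f * (f * f) * (f * f * x) := by rw [O.xf]; group
        _ = f * f * x := by rw [C.f4, one_mul]
    have hha : f * f * a = a * a * (f * f) := by rw [mul_assoc, C.fa, ← mul_assoc, C.fb, mul_assoc]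
    have hsq : f * f * x * (f * f * x) = 1 := by
      rw [mul_assoc (f * f), ← mul_assoc x, hxh, mul_assoc (f * f), O.sq, mul_one, C.f4]
    have hcomm : Commute (f * f * x) a := by
      show f * f * x * a = a * (f * f * x)
      calc f * f * x * a = f * f * (x * a) := by rw [mul_assoc]
        _ = f * f * (a * a * x) := by rw [O.xa]
        _ = f * f * a * a * x := by group
        _ = a * a * (f * f) * a * x := by rw [hha]
        _ = a * a * (f * f * a) * x := by group
        _ = a * a * (a * a * (f * f)) * x := by rw [hha]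
        _ = a * a * a * a * (f * f * x) := by group
        _ = a * (f * f * x) := by rw [C.a3, one_mul]
    have hfm : ∀ v ∈ piece R (dd r a b) (chr 12), R.act (f * f * x) v ∈ piece R (dd r a b) (chr 12) := by
      intro v hv
      rw [R.act_mul, R.act_mul]
      exact f_mem C (x := chr 13) (by decide +kernel)
        (f_mem C (x := chr 12) (by decide +kernel) (hxm 12 (by decide +kernel) v hv))
    have e := A.invol_id P1 m1 hfm (fun w _ => by rw [← R.act_mul, hsq, R.act_one])
      (fun w _ => R.act_comm hcomm w)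
    rw [R.act_mul, x1, R.act_mul] at e
    exact e
  have S : Start R r a b f u x w0 w1 := ⟨C, O.xr, O.xu, ⟨h11, h12, h0⟩, m0, m1, n0, n1, x0, f0, h1⟩
  obtain ⟨s, hs, z', hzW, hBs', hz', Fr2, hd2, hf2, hg2, huw1⟩ := baseR S
  set w := wR R f w0 w1 s with hwdef
  set y := yR R r a b f w0 w1 (s + z') with hydef
  obtain ⟨cx, hcx, hX⟩ := moveX_R S O x0 x1 hs hzW hBs' hz' huw1
  refine ⟨([gRR, gRA, gRB, gRU, cx], if R.q s then 255 else 63), ?_, _, Fr2, ?_⟩
  · simp only [List.mem_cons, List.not_mem_nil, or_false] at hcx; rcases hcx with rfl | rfl <;> cases R.q s <;> simp [cfgs]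
  · simp only [List.forall₂_cons, List.Forall₂.nil, and_true]
    exact ⟨hd2 0, hd2 1, hd2 2, hg2, hX⟩

end Cfsg.Agent.U62Rec.S36
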