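import Cfsg.Agent.U62Rec.S36.Basis

/-!
# The frame in the case of four planes
-/

set_option autoImplicit false
set_option maxRecDepth 100000

namespace Cfsg.Agent.U62Rec.S36

open Act3 (el piece sumMap Inp ev Plane)

/-- The eigenspace of a coordinate. -/
def idT (k : Fin 4) : Fin 14 := ![3, 8, 2, 9] k

/-- The coordinate permutations of `f` and `x`. -/
def fT (k : Fin 4) : Fin 4 := ![2, 3, 1, 0] k

/-- The coordinate permutation of `x`. -/
def xT (k : Fin 4) : Fin 4 := ![0, 1, 3, 2] k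

theorem idT_facts : (∀ k, idT k ≠ 0 ∧ dot (chr (idT k)) (ev 0) ≠ 0) ∧ Function.Injective idT ∧
    (∀ k t, dot (chr (idT k)) (fsig' t) = 0 ↔ dot (chr (idT (fT k))) t = 0) ∧
    (∀ t, dot (chr (idT 0)) (xsig t) = 0 ↔ dot (chr (idT 0)) t = 0) := by decide +kernel

theorem gT_facts : ∀ k : Fin 4,
    (app gTF (u0 k) = u0 (fT k) ∧ app gTF (u1 k) = u1 (fT k)) ∧
    (app gTX (u0 k) = u0 (xT k) ∧ app gTX (u1 k) = u0 (xT k) ^^^ u1 (xT k)) ∧
    ∀ j : Fin 3, ∀ g, g = ![gTR, gTA, gTB] j →
    (app g (u0 k) = (if dot (chr (idT k)) (ev j.castSucc) = 0 then u0 k else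
      if dot (chr (idT k)) (ev j.castSucc) = dot (chr (idT k)) (ev 0) then u1 k else u0 k ^^^ u1 k) ∧
    app g (u1 k) = (if dot (chr (idT k)) (ev j.castSucc) = 0 then u1 k else
      if dot (chr (idT k)) (ev j.castSucc) = dot (chr (idT k)) (ev 0) then u0 k ^^^ u1 k else u0 k)) := by
  intro k
  refine ⟨?_, ?_, fun j g hg => ?_⟩
  · revert k; decide +kernel
  · revert k; decide +kernel
  · subst hg; revert k j; decide +kernel

theorem gTR_unit : app gTR 1 = 2 ∧ app gTR 4 = 8 ∧ app gTR 16 = 32 ∧ app gTR 64 = 128 ∧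
    app gTF (app gTF 1) = 4 ∧ app gTF 1 = 16 ∧ app gTF 4 = 64 ∧ IsCode gTU := by
  refine ⟨?_, ?_, ?_, ?_, ?_, ?_, ?_, ?_⟩
  all_goals first | decide +kernel | (show gTU < 2 ^ 64; decide +kernel)

/-- The code of `u` in the case of four planes. -/
theorem T_unique {g : ℕ} (hg : IsCode g) (h : condC gTR gTA gTB gTF g = true) : g = gTU := by
  have h' := h
  simp only [condC, Bool.and_eq_true, Nat.beq_eq] at h'
  obtain ⟨⟨⟨⟨⟨⟨hr, hh⟩, hf⟩, -⟩, -⟩, -⟩, -⟩ := h'
  obtain ⟨r1, r4, r16, r64, h1, f1, f4, -⟩ := gTR_unit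
  have eH : ∀ v, app (cmp gTF gTF) v = app gTF (app gTF v) := fun v => app_cmp _ _ _
  set n := app g 1
  have e2 : app g 2 = app gTR n := by rw [← r1]; exact app_comm hr 1
  have e4 : app g 4 = app gTF (app gTF n) := by
    rw [← h1, ← eH 1, app_comm hh 1, eH]
  have hh' : ∀ v, app g (app gTF (app gTF v)) = app gTF (app gTF (app g v)) := fun v => by
    rw [← eH, app_comm hh, eH]
  have hf' : ∀ v, app gTF (app g v) = app gTF (app gTF (app g (app gTF v))) := fun v => by
    have e := congrArg (fun c => app c v) hf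
    simp only [app_cmp] at e
    rw [e, hh']
  have h4 : ∀ v < 256, app gTF (app gTF (app gTF (app gTF v))) = v := by decide +kernel
  have e16 : app g 16 = app gTF (app gTF (app gTF n)) := by
    have e := hf' 1
    rw [f1] at e
    rw [e, h4 _ (app_lt _ _)]
  have e64 : app g 64 = app gTF n := by
    have e := hf' 4
    rw [f4, e4] at e
    rw [← h4 _ (app_lt g 64), ← e, h4 _ (app_lt _ _)]
  have key : g = candT n := by
    conv_lhs => rw [eq_pack hg]
    simp only [candT]
    rw [e2, e4, e16, e64,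
      show app g 8 = app gTR (app g 4) by rw [← r4]; exact app_comm hr 4,
      show app g 32 = app gTR (app g 16) by rw [← r16]; exact app_comm hr 16,
      show app g 128 = app gTR (app g 64) by rw [← r64]; exact app_comm hr 64, e4, e16, e64]
  rw [key]
  exact candT_check _ (app_lt _ _) (key ▸ h)

variable {Q : Type*} [Group Q] {V : Type*} [AddCommGroup V] {R : Rep Q V} {r a b f u x : Q}

/-- The vectors in the four planes. -/
def wT (R : Rep Q V) (f : Q) (w0 : V) : Fin 4 → V :=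
  ![w0, R.act f (R.act f w0), R.act f w0, R.act f (R.act f (R.act f w0))]

/-- Their partners. -/
def yT (R : Rep Q V) (r f : Q) (w0 : V) : Fin 4 → V := fun k => R.act r (wT R f w0 k)

theorem cardT (C : Core r a b f u) (hT : IsT R r a b) :
    ∀ k, Nat.card ↥(piece R (dd r a b) (chr (idT k))) = 4 := by
  have e : ∀ i j : Fin 14, (∀ t, dot (chr i) (fsig' t) = 0 ↔ dot (chr j) t = 0) →
      (∀ t, dot (chr i) t = 0 ↔ dot (chr j) (fsig t) = 0) →
      Nat.card ↥(piece R (dd r a b) (chr i)) = Nat.card ↥(piece R (dd r a b) (chr j)) :=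
    fun i j h h' => f_card C h h'
  have h3 : Nat.card ↥(piece R (dd r a b) (chr 3)) = 4 := hT
  have h2 : Nat.card ↥(piece R (dd r a b) (chr 2)) = 4 :=
    (e 3 2 (by decide +kernel) (by decide +kernel)).symm.trans h3
  have h8 : Nat.card ↥(piece R (dd r a b) (chr 8)) = 4 :=
    (e 2 8 (by decide +kernel) (by decide +kernel)).symm.trans h2
  have h9 : Nat.card ↥(piece R (dd r a b) (chr 9)) = 4 :=
    (e 8 9 (by decide +kernel) (by decide +kernel)).symm.trans h8
  intro k
  fin_cases k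
  exacts [h3, h8, h2, h9]

/-- A frame in which the code of `u` is known. -/
theorem baseT (C : Core r a b f u) (hT : IsT R r a b) {w0 : V}
    (hw0 : w0 ∈ piece R (dd r a b) (chr (idT 0))) (hne : w0 ≠ 0) :
    (∀ k, wT R f w0 k ∈ piece R (dd r a b) (chr (idT k)) ∧ wT R f w0 k ≠ 0) ∧
    (∀ k, R.act f (wT R f w0 k) = wT R f w0 (fT k)) ∧
    R.Frame (mkE (wT R f w0) (yT R r f w0)) 255 ∧
    (∀ j : Fin 3, R.Moves (mkE (wT R f w0) (yT R r f w0)) (![gTR, gTA, gTB] j) (dd r a b j.castSucc)) ∧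
    R.Moves (mkE (wT R f w0) (yT R r f w0)) gTF f ∧ R.Moves (mkE (wT R f w0) (yT R r f w0)) gTU u := by
  have A : Tri R (dd r a b) := tri_of C
  obtain ⟨hid, hinj, hfs, -⟩ := idT_facts
  have hcard := cardT C hT
  have P : ∀ k, Plane R (dd r a b) (idT k) 0 := fun k => ⟨(hid k).1, hcard k, (hid k).2⟩
  have hf4 : ∀ v, R.act f (R.act f (R.act f (R.act f v))) = v := fun v => by
    rw [← R.act_mul, ← R.act_mul, ← R.act_mul]
    rw [show f * f * f * f = f * f * (f * f) by group, C.f4, R.act_one]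
  set w := wT R f w0 with hwdef
  set y : Fin 4 → V := yT R r f w0 with hydef
  have hfm : ∀ k v, v ∈ piece R (dd r a b) (chr (idT k)) →
      R.act f v ∈ piece R (dd r a b) (chr (idT (fT k))) := fun k v hv => f_mem C (hfs k) hv
  have m0 : w 0 ∈ piece R (dd r a b) (chr (idT 0)) := hw0
  have m2 : w 2 ∈ piece R (dd r a b) (chr (idT 2)) := hfm 0 _ m0
  have m1 : w 1 ∈ piece R (dd r a b) (chr (idT 1)) := hfm 2 _ m2
  have m3 : w 3 ∈ piece R (dd r a b) (chr (idT 3)) := hfm 1 _ m1
  have hm : ∀ k, w k ∈ piece R (dd r a b) (chr (idT k)) := fun k => by fin_cases k <;> assumption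
  have hn : ∀ k, w k ≠ 0 := by
    have step : ∀ v, v ≠ 0 → R.act f v ≠ 0 := fun v hv e =>
      hv (R.act_inj _ (e.trans (R.act_zero _).symm))
    intro k
    fin_cases k
    exacts [hne, step _ (step _ hne), step _ hne, step _ (step _ (step _ hne))]
  have hy : ∀ k, y k ∈ piece R (dd r a b) (chr (idT k)) := fun k => A.act_d_mem (hm k) 0
  have hfw : ∀ k, R.act f (w k) = w (fT k) := by
    intro k
    fin_cases k
    exacts [rfl, rfl, rfl, hf4 _]
  have hF : R.Frame (mkE w y) 255 := by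
    refine frame_of A idT hinj hm hy
      (fun k => A.B_self_act (P k) (hm k) (hn k)) (fun k => ?_) (fun k => ?_)
    · rw [A.q_true (P k) (hm k) (hn k)]
      revert k; decide +kernel
    · rw [hydef, yT]
      rw [R.q_act, A.q_true (P k) (hm k) (hn k)]
      revert k; decide +kernel
  have hd : ∀ j : Fin 3, R.Moves (mkE w y) (![gTR, gTA, gTB] j) (dd r a b j.castSucc) := by
    intro j
    refine moves_of R (fun k => ?_) (fun k => ?_) <;>
      obtain ⟨h1, h2⟩ := d_act A (P k) (hm k) (hn k) j.castSucc <;>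
      obtain ⟨c1, c2⟩ := (gT_facts k).2.2 j _ rfl
    · rw [h1, c1]; split_ifs
      exacts [(vec_u0 w y k).symm, (vec_u1 w y k).symm, (vec_both R w y k).symm]
    · show R.act _ (R.act (dd r a b 0) (w k)) = _
      rw [h2, c2]; split_ifs
      exacts [(vec_u1 w y k).symm, (vec_both R w y k).symm, (vec_u0 w y k).symm]
  have hf : R.Moves (mkE w y) gTF f := moves_of R
    (fun k => by rw [(gT_facts k).1.1, vec_u0, hfw])
    (fun k => by
      rw [(gT_facts k).1.2, vec_u1]
      show R.act f (R.act r (w k)) = R.act r (w (fT k))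
      rw [← R.act_mul, C.fr, R.act_mul, hfw])
  obtain ⟨g, hgc, hg⟩ := hF.exists_code u
  have hgU : g = gTU := T_unique hgc (condC_of C hF (hd 0) (hd 1) (hd 2) hf hg)
  exact ⟨fun k => ⟨hm k, hn k⟩, hfw, hF, hd, hf, hgU ▸ hg⟩

/-- The code of `x` in such a frame. -/
theorem moveX_T (C : Core r a b f u) (O : Out r a b f u x) (hT : IsT R r a b) {w0 : V}
    (hw0 : w0 ∈ piece R (dd r a b) (chr (idT 0))) (hne : w0 ≠ 0) (hx0 : R.act x w0 = w0) :
    R.Moves (mkE (wT R f w0) (yT R r f w0)) gTX x := by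
  have A : Tri R (dd r a b) := tri_of C
  obtain ⟨hid, -, -, -⟩ := idT_facts
  have P : ∀ k, Plane R (dd r a b) (idT k) 0 := fun k => ⟨(hid k).1, cardT C hT k, (hid k).2⟩
  obtain ⟨hwm, -⟩ := baseT C hT hw0 hne
  set w := wT R f w0 with hwdef
  set y := yT R r f w0 with hydef
  have hm := fun k => (hwm k).1
  have hn := fun k => (hwm k).2
  have hf4 : ∀ v, R.act f (R.act f (R.act f (R.act f v))) = v := fun v => by
    rw [← R.act_mul, ← R.act_mul, ← R.act_mul]
    rw [show f * f * f * f = f * f * (f * f) by group, C.f4, R.act_one]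
  have hxf : ∀ v, R.act x (R.act f v) = R.act f (R.act f (R.act f (R.act x v))) := fun v => by
    rw [← R.act_mul, O.xf, R.act_mul, R.act_mul, R.act_mul]
  have hxw : ∀ k, R.act x (w k) = w (xT k) := by
    intro k
    fin_cases k
    · exact hx0
    · show R.act x (R.act f (R.act f w0)) = R.act f (R.act f w0)
      rw [hxf, hxf, hx0, hf4]
    · show R.act x (R.act f w0) = R.act f (R.act f (R.act f w0))
      rw [hxf, hx0]
    · show R.act x (R.act f (R.act f (R.act f w0))) = R.act f w0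
      rw [hxf, hxf, hxf, hx0, hf4, hf4]
  have hX : R.Moves (mkE w y) gTX x := moves_of R
    (fun k => by rw [(gT_facts k).2.1.1, vec_u0, hxw])
    (fun k => by
      rw [(gT_facts k).2.1.2, vec_both R]
      show R.act x (R.act r (w k)) = _
      rw [x_move C.r3 O.xr (v := w k) (by rw [hxw]; exact A.twice (P _) (hm _) (hn _)), hxw]
      rfl)
  exact hX

/-- Four planes. -/
theorem frame_T (C : Core r a b f u) (O : Out r a b f u x) (hT : IsT R r a b) :
    ∃ e, R.Frame e 255 ∧ List.Forall₂ (R.Moves e) [gTR, gTA, gTB, gTU, gTX] [r, a, b, u, x] := by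
  have A : Tri R (dd r a b) := tri_of C
  obtain ⟨hid, hinj, hfs, hxs⟩ := idT_facts
  have hcard := cardT C hT
  have P : ∀ k, Plane R (dd r a b) (idT k) 0 := fun k => ⟨(hid k).1, hcard k, (hid k).2⟩
  obtain ⟨w0, hw0, hne, hx0⟩ := A.exists_fixed (P 0) (x := x) (fun v hv => x_mem C O hxs hv)
    (fun v _ => by rw [← R.act_mul, O.sq, R.act_one])
  obtain ⟨-, -, hF, hd, hf, hU⟩ := baseT C hT hw0 hne
  have hX := moveX_T C O hT hw0 hne hx0
  refine ⟨_, hF, ?_⟩
  simp only [List.forall₂_cons, List.Forall₂.nil, and_true]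
  exact ⟨hd 0, hd 1, hd 2, hU, hX⟩

end Cfsg.Agent.U62Rec.S36
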