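import Cfsg.Agent.U62Rec.S36.Basis

/-!
# Two planes and a space of dimension 4 do not occur
-/

set_option autoImplicit false
set_option maxRecDepth 100000

namespace Cfsg.Agent.U62Rec.S36

open Act3 (el piece sumMap Inp ev Plane)

variable {Q : Type*} [Group Q] {V : Type*} [AddCommGroup V] {R : Rep Q V} {r a b f u : Q}

/-- A vector fixed by `r` is a sum from the two planes. -/
theorem fixed_split (A : Tri R (dd r a b)) (h11 : Nat.card ↥(piece R (dd r a b) (chr 11)) = 16)
    (h12 : Nat.card ↥(piece R (dd r a b) (chr 12)) = 4)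
    (h13 : Nat.card ↥(piece R (dd r a b) (chr 13)) = 4) {v : V} (hv : R.act r v = v) :
    ∃ p ∈ piece R (dd r a b) (chr 12), ∃ q ∈ piece R (dd r a b) (chr 13), v = p + q := by
  classical
  have hVf : Finite V := Nat.finite_of_card_ne_zero (by rw [R.card]; norm_num)
  obtain ⟨g, rfl⟩ := A.sumMap_bijective.2 v
  set S : Finset (Fin 14) := {11, 12, 13}
  have hone : ∀ i ∉ S, (g i : V) = 0 := by
    have hp := A.card_eq
    rw [← Finset.prod_mul_prod_compl S] at hp
    have hS : ∏ i ∈ S, Nat.card ↥(piece R (dd r a b) (chr i)) = 256 := by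
      simp [S, h11, h12, h13]
    rw [hS] at hp
    have h1 : ∏ i ∈ Sᶜ, Nat.card ↥(piece R (dd r a b) (chr i)) = 1 :=
      Nat.eq_of_mul_eq_mul_left (show 0 < 256 by norm_num) (hp.trans (mul_one 256).symm)
    intro i hi
    have := Finset.prod_eq_one_iff.1 h1 i (Finset.mem_compl.2 hi)
    exact congrArg Subtype.val ((Nat.card_eq_one_iff_unique.1 this).1.elim (g i) 0)
  let g' : (i : Fin 14) → ↥(piece R (dd r a b) (chr i)) :=
    fun i => ⟨R.act r (g i), A.act_d_mem (g i).2 0⟩
  have hsum : sumMap R (dd r a b) g' = R.act r (sumMap R (dd r a b) g) := by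
    let F : V →+ V := AddMonoidHom.mk' (R.act r) (R.act_add _)
    exact (map_sum F (fun i => (g i : V)) Finset.univ).symm
  have hgg : g' = g := A.sumMap_bijective.1 (by rw [hsum, hv])
  have h0 : (g 11 : V) = 0 := by
    have hF := A.d_moved (g 11).2 (i := 0) (by decide)
    rwa [R.F_of_fix (show R.act (dd r a b 0) (g 11 : V) = _ from congrArg Subtype.val (congrFun hgg 11))]
      at hF
  refine ⟨_, (g 12).2, _, (g 13).2, ?_⟩
  rw [sumMap, ← Finset.sum_subset (Finset.subset_univ S) (fun i _ hi => hone i hi)]
  simp [S, h0]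

theorem not_X (C : Core r a b f u) (hX : IsX R r a b) : False := by
  have A : Tri R (dd r a b) := tri_of C
  obtain ⟨h11, h12⟩ := hX
  have h13 : Nat.card ↥(piece R (dd r a b) (chr 13)) = 4 :=
    (f_card C (x := chr 12) (y := chr 13) (by decide +kernel) (by decide +kernel)).symm.trans h12
  have P : Plane R (dd r a b) 12 1 := ⟨by decide, h12, by decide⟩
  have P' : Plane R (dd r a b) 13 2 := ⟨by decide, h13, by decide⟩
  have hboth : ∀ v, v ∈ piece R (dd r a b) (chr 12) → v ∈ piece R (dd r a b) (chr 13) → v = 0 := by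
    intro v h h'
    by_contra h0
    obtain ⟨p, hp, hB⟩ := A.exists_partner h h0
    rw [R.B_comm, A.sep (by decide : (12 : Fin 14) ≠ 13) hp h'] at hB
    cases hB
  have hfix : ∀ v ∈ piece R (dd r a b) (chr 12), R.act r v = v ∧ R.act b v = v := fun v hv =>
    ⟨A.d_fix hv (i := 0) (by decide), A.d_fix hv (i := 2) (by decide)⟩
  have hau : ∀ v ∈ piece R (dd r a b) (chr 13), R.act a v = v := fun v hv =>
    A.d_fix hv (i := 1) (by decide)
  have hq : R.q (0 : V) = false := by
    have h := R.q_add (0 : V) 0
    rwa [add_zero, R.B_self, Bool.xor_false, Bool.xor_self] at h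
  have himg : ∀ v ∈ piece R (dd r a b) (chr 12), v ≠ 0 →
      R.act u v ∈ piece R (dd r a b) (chr 12) ∨ R.act u v ∈ piece R (dd r a b) (chr 13) := by
    intro v hv hv0
    obtain ⟨p, hp, q, hq', e⟩ := fixed_split A h11 h12 h13 (v := R.act u v) (by
      rw [← R.act_mul, ← C.ur, R.act_mul, (hfix v hv).1])
    by_cases hp0 : p = 0
    · right; rwa [e, hp0, zero_add]
    by_cases hq0 : q = 0
    · left; rwa [e, hq0, add_zero]
    exfalso
    have h := R.q_act u v
    rw [A.q_true P hv hv0, e, R.q_add, A.q_true P hp hp0, A.q_true P' hq' hq0,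
      A.sep (by decide : (12 : Fin 14) ≠ 13) hp hq'] at h
    cases h
  obtain ⟨w, hw, hw0⟩ := A.exists_ne_zero P
  have huu : ∀ v, R.act u (R.act u v) = v := fun v => by rw [← R.act_mul, C.u2, R.act_one]
  set U := fun v => R.act u (R.act a v)
  have h3 : ∀ v, U (U (U v)) = v := fun v => by
    simp only [U, ← R.act_mul]
    rw [show u * a * (u * a * (u * a)) = u * a * (u * a) * (u * a) by group, C.ua, R.act_one]
  have ham : ∀ v ∈ piece R (dd r a b) (chr 12), R.act a v ∈ piece R (dd r a b) (chr 12) :=
    fun v hv => A.act_d_mem hv 1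
  have ha0 : ∀ v, v ≠ 0 → R.act a v ≠ 0 := fun v hv e => hv (R.act_inj _ (e.trans (R.act_zero _).symm))
  by_cases hin : ∀ v ∈ piece R (dd r a b) (chr 12), R.act u v ∈ piece R (dd r a b) (chr 12)
  · have hU : ∀ v ∈ piece R (dd r a b) (chr 12), U v ∈ piece R (dd r a b) (chr 12) :=
      fun v hv => hin _ (ham v hv)
    have hub : ∀ v ∈ piece R (dd r a b) (chr 12), R.act (u * a * b) v = U v := fun v hv => by
      rw [R.act_mul, R.act_mul, (hfix v hv).2]
    have hfixU : ∀ v ∈ piece R (dd r a b) (chr 12), U v = v := by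
      intro v hv
      have h5 : U (U (U (U (U v)))) = v := by
        have h := congrArg (fun g => R.act g v) C.uab
        simp only [R.act_mul (u * a * b * (u * a * b) * (u * a * b) * (u * a * b)) (u * a * b),
          R.act_mul (u * a * b * (u * a * b) * (u * a * b)) (u * a * b),
          R.act_mul (u * a * b * (u * a * b)) (u * a * b),
          R.act_mul (u * a * b) (u * a * b)] at h
        rw [hub v hv, hub _ (hU v hv), hub _ (hU _ (hU v hv)), hub _ (hU _ (hU _ (hU v hv))),
          hub _ (hU _ (hU _ (hU _ (hU v hv)))), R.act_one] at h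
        exact h
      rw [h3] at h5
      have h6 := congrArg U h5
      rw [h3] at h6
      exact h6.symm
    have e1 : R.act a w = R.act u w := by
      have := congrArg (R.act u) (hfixU w hw)
      rwa [huu] at this
    have e2 : R.act u (R.act a (R.act a w)) = R.act a w := hfixU _ (ham w hw)
    have e3 : R.act a (R.act a w) = w := R.act_inj u (e2.trans e1)
    have := congrArg (R.act a) e3
    rw [← R.act_mul, ← R.act_mul, C.a3, R.act_one] at this
    exact A.moved_ne P hw hw0 this.symm
  · push Not at hin
    obtain ⟨v, hv, hvn⟩ := hin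
    have hv0 : v ≠ 0 := fun e => hvn (by rw [e, R.act_zero]; exact zero_mem _)
    have h13v := (himg v hv hv0).resolve_left hvn
    have hall : ∀ v' ∈ piece R (dd r a b) (chr 12), R.act u v' ∈ piece R (dd r a b) (chr 13) := by
      intro v' hv'
      rcases A.cases4 P hv hv0 hv' with rfl | rfl | rfl | rfl
      · rw [R.act_zero]; exact zero_mem _
      · exact h13v
      · refine (himg _ (ham v hv) (ha0 v hv0)).resolve_left fun h => ?_
        have hB := R.B_act u v (R.act a v)
        rw [show R.B v (R.act a v) = true from A.B_self_act P hv hv0, R.B_comm,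
          A.sep (by decide : (12 : Fin 14) ≠ 13) h h13v] at hB
        cases hB
      · rw [R.act_add]
        refine add_mem h13v ((himg _ (ham v hv) (ha0 v hv0)).resolve_left fun h => ?_)
        have hB := R.B_act u v (R.act a v)
        rw [show R.B v (R.act a v) = true from A.B_self_act P hv hv0, R.B_comm,
          A.sep (by decide : (12 : Fin 14) ≠ 13) h h13v] at hB
        cases hB
    have hUU : U (U w) = R.act a w := by
      show R.act u (R.act a (R.act u (R.act a w))) = _
      rw [hau _ (hall _ (ham w hw)), huu]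
    have h := h3 w
    rw [hUU] at h
    have h13 : U (R.act a w) ∈ piece R (dd r a b) (chr 13) := hall _ (ham _ (ham w hw))
    rw [h] at h13
    exact hw0 (hboth w hw h13)

end Cfsg.Agent.U62Rec.S36
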