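import Cfsg.Agent.U62Rec.Lift
import Cfsg.Agent.U62Rec.S36.FrameT
import Cfsg.Agent.U62Rec.S36.FrameR
import Cfsg.Agent.U62Rec.S36.NotX
import Cfsg.Agent.U62Rec.S36.Red.TM
import Cfsg.Agent.U62Rec.S36.Red.RP0
import Cfsg.Agent.U62Rec.S36.Red.RP1
import Cfsg.Agent.U62Rec.S36.Red.RM0
import Cfsg.Agent.U62Rec.S36.Red.RM1
import Cfsg.Agent.Core.PCore
import Cfsg.Agent.Layer.FStar

/-!
# Centraliser `2^{1+8}.(3 × A₆).2`
-/

set_option autoImplicit false
set_option maxRecDepth 100000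

open Cfsg Subgroup

namespace Cfsg.Agent.U62Rec.S36

open Cfsg.Agent.LargeExtra

open Equiv (Perm swap)

/-- A 2-subgroup normal in a quotient without a normal 2-subgroup is the 2-core. -/
theorem eq_pCore {H Q : Type*} [Group H] [Group Q] (F : Subgroup H) [F.Normal] (hF : IsPGroup 2 F)
    (e : H ⧸ F ≃* Q) (hQ : pCore 2 Q = ⊥) : F = pCore 2 H := by
  refine le_antisymm (Core.le_pCore hF) fun h hh => ?_
  let φ : H →* Q := e.toMonoidHom.comp (QuotientGroup.mk' F)
  have hφ : Function.Surjective φ := e.surjective.comp (QuotientGroup.mk'_surjective _)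
  have h1 : φ h ∈ (pCore 2 H).map φ := ⟨h, hh, rfl⟩
  have h2 : φ h = 1 := mem_bot.1 (hQ ▸ Core.map_pCore_le_of_surjective hφ h1)
  simpa [φ, MulEquiv.map_eq_one_iff] using h2

theorem three_cube : ∀ s : Perm (Fin 3), Equiv.Perm.sign s = 1 → s ^ 3 = 1 := by decide +kernel

theorem pCore_six : pCore 2 (Perm (Fin 6)) = ⊥ := by
  set N := pCore 2 (Perm (Fin 6))
  have hN : N.Normal := Core.pCore_normal
  have : IsSimpleGroup (alternatingGroup (Fin 6)) := alternatingGroup.isSimpleGroup (by simp)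
  have hA : N.subgroupOf (alternatingGroup (Fin 6)) = ⊥ := by
    rcases (inferInstance : (N.subgroupOf (alternatingGroup (Fin 6))).Normal).eq_bot_or_eq_top with h | h
    · exact h
    · exfalso
      let c : Perm (Fin 6) := swap 0 1 * swap 1 2
      have hc : c ∈ alternatingGroup (Fin 6) := by
        rw [Equiv.Perm.mem_alternatingGroup]; decide +kernel
      have hcN : c ∈ N := subgroupOf_eq_top.1 h hc
      obtain ⟨k, hk⟩ := Core.pCore_isPGroup (p := 2) (G := Perm (Fin 6)) ⟨c, hcN⟩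
      have hk' : c ^ 2 ^ k = 1 := congrArg Subtype.val hk
      have h3 : c ^ 3 = 1 := by decide +kernel
      have h1 : c = 1 := by
        rw [← pow_one c, ← Nat.Coprime.pow_left k (show Nat.Coprime 2 3 by norm_num)]
        exact (pow_gcd_eq_one).2 ⟨hk', h3⟩
      exact absurd h1 (by decide +kernel)
  rw [eq_bot_iff]
  intro x hx
  have hcen : x ∈ center (Perm (Fin 6)) := mem_center_iff.2 fun g => by
    have hm : g * x * g⁻¹ * x⁻¹ ∈ N := mul_mem (hN.conj_mem _ hx g) (inv_mem hx)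
    have he : g * x * g⁻¹ * x⁻¹ ∈ alternatingGroup (Fin 6) := by
      rw [Equiv.Perm.mem_alternatingGroup]; simp [mul_comm (Equiv.Perm.sign g), mul_assoc, Int.units_mul_self]
    have h1 : (⟨_, he⟩ : alternatingGroup (Fin 6)) ∈ N.subgroupOf (alternatingGroup (Fin 6)) := hm
    rw [hA, mem_bot] at h1
    exact mul_inv_eq_iff_eq_mul.1 (mul_inv_eq_one.1 (congrArg Subtype.val h1))
  have hmv : ∀ i j : Fin 6, i ≠ j → x i = i ∨ x i = j := by
    intro i j hij
    have e : swap i j (x i) = x j := by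
      have h := Equiv.ext_iff.1 (mem_center_iff.1 hcen (swap i j)) i
      simpa using h
    rcases eq_or_ne (x i) i with h | hi
    · exact Or.inl h
    rcases eq_or_ne (x i) j with h | hj
    · exact Or.inr h
    rw [Equiv.swap_apply_of_ne_of_ne hi hj] at e
    exact absurd (x.injective e) hij
  refine mem_bot.2 (Equiv.ext fun i => ?_)
  obtain ⟨j, k, hj, hk, hjk⟩ := (by decide : ∀ i : Fin 6, ∃ j k : Fin 6, i ≠ j ∧ i ≠ k ∧ j ≠ k) i
  rcases hmv i j hj with h | h <;> rcases hmv i k hk with h' | h'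
  · exact h
  · exact h
  · exact h'
  · exact absurd (h.symm.trans h') hjk

/-- The projection to the second factor. -/
noncomputable abbrev pr : PM →* Perm (Fin 6) :=
  (MonoidHom.snd (Perm (Fin 3)) (Perm (Fin 6))).comp (MonoidHom.ker sgn2).subtype

theorem pr_surjective : Function.Surjective pr := by
  intro t
  obtain ⟨s, hs⟩ : ∃ s : Perm (Fin 3), Equiv.Perm.sign s * Equiv.Perm.sign t = 1 := by
    rcases Int.units_eq_one_or (Equiv.Perm.sign t) with e | e
    · exact ⟨1, by rw [e]; simp⟩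
    · exact ⟨swap 0 1, by rw [e, Equiv.Perm.sign_swap (by decide)]; simp⟩
  exact ⟨⟨(s, t), MonoidHom.mem_ker.2 hs⟩, rfl⟩

theorem pCore_PM : pCore 2 PM = ⊥ := by
  rw [eq_bot_iff]
  intro p hp
  have h2 : (p : P6).2 = 1 := by
    have h := Core.map_pCore_le_of_surjective (p := 2) pr_surjective ⟨p, hp, rfl⟩
    rw [pCore_six, mem_bot] at h
    exact h
  obtain ⟨k, hk⟩ := Core.pCore_isPGroup (p := 2) (G := PM) ⟨p, hp⟩
  have hk' : (p : P6).1 ^ 2 ^ k = 1 :=
    congrArg (fun w : ↥(pCore 2 PM) => ((w : PM) : P6).1) hk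
  have hs : Equiv.Perm.sign (p : P6).1 = 1 := by
    simpa [sgn2, h2] using MonoidHom.mem_ker.1 p.2
  have h1 : (p : P6).1 = 1 := by
    rw [← pow_one (p : P6).1, ← Nat.Coprime.pow_left k (show Nat.Coprime 2 3 by norm_num)]
    exact (pow_gcd_eq_one).2 ⟨hk', three_cube _ hs⟩
  exact mem_bot.2 (Subtype.ext (Prod.ext h1 h2))

theorem closure_five {Q : Type*} [Group Q] {T : Fin 6 → Q} (h : Gens T) :
    closure {g | g ∈ [T 0, T 1, T 2, T 4, T 5]} = ⊤ := by
  rw [eq_top_iff, ← h.gen, closure_le]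
  rintro _ ⟨i, rfl⟩
  set K := closure {g | g ∈ [T 0, T 1, T 2, T 4, T 5]}
  have m : ∀ g ∈ [T 0, T 1, T 2, T 4, T 5], g ∈ K := fun g hg => subset_closure hg
  have ha := m (T 1) (by simp)
  have hb := m (T 2) (by simp)
  have hu := m (T 4) (by simp)
  fin_cases i
  · exact m _ (by simp)
  · exact ha
  · exact hb
  · show T 3 ∈ K
    rw [← h.core.word]
    exact mul_mem (mul_mem (mul_mem (mul_mem (mul_mem (mul_mem (mul_mem (mul_mem (mul_mem hb hu) ha) hb)
      hu) ha) ha) hb) hu) hb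
  · exact hu
  · exact m _ (by simp)

theorem cfg_lists : cfgs = [(TM.gens, TM.lin), (RP0.gens, RP0.lin), (RP1.gens, RP1.lin),
    (RM0.gens, RM0.lin), (RM1.gens, RM1.lin)] := by decide +kernel

variable {G : Type*} [Group G] [Finite G] {z : G}

/-- Coordinates in one of the five configurations. -/
theorem mod_of {Q : Type*} [Group Q] (S : Setting z) (hc : Nat.card ↥(oc z) = 512)
    (φ : ↥(centralizer ({z} : Set G)) →* Q) (hφ : Function.Surjective φ)
    (hker : ∀ h, φ h = 1 ↔ (h : G) ∈ oc z)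
    {T T' : Fin 6 → Q} (hT : Gens T) (hT' : Gens T') (h0 : T' 0 = T 0) (h1 : T' 1 = T 1 * T 2)
    (h2 : T' 2 = T 1 * (T 2 * T 2)) : ∃ c ∈ cfgs, Nonempty (Mod ⟨c.1, c.2⟩ z) := by
  obtain ⟨R, hB, hq, hA⟩ := exists_rep S hc φ hφ hker
  have one : ∀ U : Fin 6 → Q, Gens U →
      IsT R (U 0) (U 1) (U 2) ∨ IsR R (U 0) (U 1) (U 2) ∨ IsX R (U 0) (U 1) (U 2) →
      ∃ c ∈ cfgs, Nonempty (Mod ⟨c.1, c.2⟩ z) := by
    intro U hU hcase
    obtain ⟨c, hcm, ev, Fr, hl⟩ : ∃ c ∈ cfgs, ∃ ev, R.Frame ev c.2 ∧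
        List.Forall₂ (R.Moves ev) c.1 [U 0, U 1, U 2, U 4, U 5] := by
      rcases hcase with h | h | h
      · obtain ⟨ev, Fr, hl⟩ := frame_T hU.core hU.out h
        exact ⟨_, List.mem_cons_self .., ev, Fr, hl⟩
      · exact frame_R hU.core hU.out h
      · exact (not_X hU.core h).elim
    exact ⟨c, hcm, exists_mod S hc φ hφ hker hB hq hA Fr hl (cfgs_code c hcm) (closure_five hU)⟩
  rcases cases3 (R := R) hT.core hT'.core h0 h1 h2 with h | h
  · exact one T hT h
  · exact one T' hT' h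

/-- In every configuration `G = H·O(G)`. -/
theorem sup_top {c : List ℕ × ℕ} (hc : c ∈ cfgs) (M : Mod ⟨c.1, c.2⟩ z) :
    centralizer ({z} : Set G) ⊔ Cfsg.oddCore G = ⊤ := by
  rw [cfg_lists] at hc
  simp only [List.mem_cons, List.not_mem_nil, or_false] at hc
  rcases hc with rfl | rfl | rfl | rfl | rfl
  · exact TM.main M
  · exact RP0.main M
  · exact RP1.main M
  · exact RM0.main M
  · exact RM1.main M

/-- The conclusion for a nonabelian simple group. -/
theorem false_of_sup [IsSimpleGroup G] (hG : ¬ IsMulCommutative G) (hz : orderOf z = 2)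
    (h : centralizer ({z} : Set G) ⊔ Cfsg.oddCore G = ⊤) : False := by
  have hO : Cfsg.oddCore G = ⊥ := by
    rcases (Core.pPrimeCore_normal (p := 2) (G := G)).eq_bot_or_eq_top with h' | h'
    · exact h'
    · exfalso
      refine Core.not_dvd_card_pPrimeCore (p := 2) (G := G) ?_
      rw [h', card_top, ← hz]
      exact orderOf_dvd_natCard z
  rw [hO, sup_bot_eq, eq_top_iff'] at h
  have hzc : z ∈ center G := mem_center_iff.2 fun g => mem_centralizer_singleton_iff.1 (h g)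
  rcases (inferInstance : (center G).Normal).eq_bot_or_eq_top with h' | h'
  · rw [h', mem_bot] at hzc
    rw [hzc, orderOf_one] at hz
    cases hz
  · exact hG ⟨⟨fun a b => (mem_center_iff.1 (h' ▸ mem_top a : a ∈ center G) b).symm⟩⟩

/-- There is no simple group with such a centraliser. -/
theorem not_simple [IsSimpleGroup G] (hG : ¬ IsMulCommutative G) (hz : orderOf z = 2)
    (F : Subgroup ↥(centralizer ({z} : Set G))) [F.Normal]
    (hFs : F = generalizedFittingSubgroup ↥(centralizer ({z} : Set G)))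
    (hQ : IsExtraspecial 2 F) (hQ9 : Nat.card F = 2 ^ 9)
    (e : (↥(centralizer ({z} : Set G)) ⧸ F) ≃* PM) : False := by
  have hF : F = pCore 2 ↥(centralizer ({z} : Set G)) := eq_pCore F (IsPGroup.of_card hQ9) e pCore_PM
  have hCJ : centralizer (F : Set ↥(centralizer ({z} : Set G))) ≤ F := by
    rw [hFs]; exact Layer.centralizer_generalizedFitting_le
  let φ : ↥(centralizer ({z} : Set G)) →* PM := e.toMonoidHom.comp (QuotientGroup.mk' F)
  have hφ : Function.Surjective φ := e.surjective.comp (QuotientGroup.mk'_surjective _)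
  have hker : ∀ h, φ h = 1 ↔ (h : G) ∈ oc z := fun h => by
    show e (QuotientGroup.mk h) = 1 ↔ _
    rw [MulEquiv.map_eq_one_iff, QuotientGroup.eq_one_iff, hF]
    exact ⟨fun hh => ⟨h, hh, rfl⟩, fun ⟨k, hk, e'⟩ => (Subtype.ext e' : k = h) ▸ hk⟩
  rw [hF] at hQ hQ9 hCJ
  obtain ⟨c, hc, ⟨M⟩⟩ := mod_of (setting_of hz hQ hCJ) ((card_oc hQ9).trans (by norm_num)) φ hφ hker
    gens0 gens1 tup1_rab.1 tup1_rab.2.1 tup1_rab.2.2
  exact false_of_sup hG hz (sup_top hc M)

end Cfsg.Agent.U62Rec.S36
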