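import Cfsg.Agent.U62Rec.UniqueU

/-!
# Codes in the two configurations and their uniqueness
-/

set_option autoImplicit false
set_option maxRecDepth 100000
set_option maxHeartbeats 1000000

namespace Cfsg.Agent.U62Rec.S36

/-- A code. -/
def gTR : ℕ := 13871139766500066050

/-- A code. -/
def gTA : ℕ := 9241421688523719426

/-- A code. -/
def gTB : ℕ := 4665782128087400961

/-- A code. -/
def gTF : ℕ := 144405478477144080

/-- A code. -/
def gTU : ℕ := 3032481955885392465

/-- A code. -/
def gTX : ℕ := 3463479494759940865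

/-- A code. -/
def gRR : ℕ := 9241421688590304002

/-- A code. -/
def gRA : ℕ := 9241421688657674753

/-- A code. -/
def gRB : ℕ := 9241439349495824897

/-- A code. -/
def gRF : ℕ := 4647728027303674369

/-- A code. -/
def gRU : ℕ := 6094764548919919105

/-- A code. -/
def gRX0 : ℕ := 9241421688657412865

/-- A code. -/
def gRX1 : ℕ := 4647750068739506945

/-- The relations of the code of the further element. -/
def condC (R A B F U : ℕ) : Bool :=
  let H := cmp F F
  let p := cmp U A
  let q := cmp U B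
  let s := cmp p B
  Nat.beq (cmp U R) (cmp R U) && Nat.beq (cmp U H) (cmp H U) &&
    Nat.beq (cmp F U) (cmp (cmp U H) F) && Nat.beq (cmp (cmp p p) p) idm &&
    Nat.beq (cmp (cmp q q) (cmp q q)) idm && Nat.beq (cmp (cmp (cmp (cmp s s) s) s) s) idm &&
    Nat.beq (cmp U U) idm

/-- The value of the word. -/
def wordC (A B U : ℕ) : ℕ :=
  cmp (cmp (cmp (cmp (cmp (cmp (cmp (cmp (cmp B U) A) B) U) A) A) B) U) B

/-- The possible codes in the case of four planes. -/
def candT (n : ℕ) : ℕ :=
  let h := fun v => app gTF (app gTF v)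
  let r := app gTR
  let n2 := app gTF (h n)
  pack n (r n) (h n) (r (h n)) n2 (r n2) (app gTF n) (r (app gTF n))

theorem candT_check : ∀ n < 256, condC gTR gTA gTB gTF (candT n) = true → candT n = gTU := by
  decide +kernel

/-- A code of the element `f` with prescribed values on the fixed plane. -/
def candF (n m : ℕ) : ℕ := pack 1 2 16 32 4 12 n m

/-- The possible codes of `f`. -/
def fList : List ℕ :=
  ([64, 128, 192].flatMap fun n => [64, 128, 192].map (candF n)).filter fun g =>
    !Nat.beq (app g 64) (app g 128) && Nat.beq (cmp (cmp g g) (cmp g g)) idm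

/-- The possible codes in the case of three planes. -/
def candR (F a1 b1 c d : ℕ) : ℕ :=
  let h := fun v => app F (app F v)
  pack 1 2 a1 b1 (app F (h a1)) (app F (h b1)) c d

/-- The vectors fixed by `r` and `h`. -/
def zList (F : ℕ) : List ℕ :=
  (List.range 256).filter fun v => Nat.beq (app gRR v) v && Nat.beq (app F (app F v)) v

/-- The possible values. -/
def okR (l F a1 b1 c d : ℕ) : Bool :=
  qv l a1 && qv l b1 && fv a1 b1 && fv c d && (qv l c == qv l 64) && (qv l d == qv l 128) &&
    !fv a1 c && !fv a1 d && !fv b1 c && !fv b1 d && condC gRR gRA gRB F (candR F a1 b1 c d)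

/-- The solutions. -/
def solR (l : ℕ) : List ℕ :=
  [pack 1 2 4 88 16 116 64 212, pack 1 2 4 152 16 180 212 128, pack 1 2 4 216 16 244 148 84].filter fun g =>
    qv l (app g 8 ^^^ 24)

theorem candR_check : ∀ l ∈ [63, 255], ∀ F ∈ fList, ∀ a1 ∈ zList F, qv l a1 = true →
    ∀ b1 ∈ (List.range 256).filter (fun v => Nat.beq (app gRR v) v && Nat.beq (app F (app F v)) (v ^^^ a1)),
    ∀ c ∈ zList F, ∀ d ∈ zList F, okR l F a1 b1 c d = true → candR F a1 b1 c d ∈ solR l := by
  decide +kernel

theorem solR_facts : ∀ l ∈ [63, 255], ∀ g ∈ solR l, app g 8 ^^^ 24 ∈ [64, 128, 192] ∧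
    qv l (app g 8 ^^^ 24) = true ∧ app g 4 = 4 ∧ app g 16 = 16 ∧
    (app g 8 ^^^ 24 = 192 → g = gRU) := by decide +kernel

theorem gRF_word : wordC gRA gRB gRU = gRF ∧ gRF ∈ fList := by decide +kernel

/-- The configurations: the codes of `r, a, b, u, x` (`f` is a word in `a, b, u`). -/
def cfgs : List (List ℕ × ℕ) :=
  [([gTR, gTA, gTB, gTU, gTX], 255), ([gRR, gRA, gRB, gRU, gRX0], 63),
    ([gRR, gRA, gRB, gRU, gRX1], 63), ([gRR, gRA, gRB, gRU, gRX0], 255),
    ([gRR, gRA, gRB, gRU, gRX1], 255)]

theorem cfgs_code : ∀ c ∈ cfgs, ∀ g ∈ c.1, g < 2 ^ 64 := by decide +kernel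

end Cfsg.Agent.U62Rec.S36
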