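import Cfsg.Agent.U62Rec.S36.Split
import Cfsg.Agent.U62Rec.S36.Codes
import Cfsg.Agent.U62Rec.BasisOf

/-!
# Vectors in planes and the induced codes
-/

set_option autoImplicit false
set_option maxRecDepth 100000

namespace Cfsg.Agent.U62Rec.S36

open Act3 (el piece sumMap Inp ev Plane)

variable {Q : Type*} [Group Q] {V : Type*} [AddCommGroup V] {R : Rep Q V}

section
variable {d : Fin 4 → Q}

theorem frame_of (A : Tri R d) {w y : Fin 4 → V} {l : ℕ} (idx : Fin 4 → Fin 14)
    (hinj : Function.Injective idx) (hw : ∀ k, w k ∈ piece R d (chr (idx k)))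
    (hy : ∀ k, y k ∈ piece R d (chr (idx k))) (hB : ∀ k, R.B (w k) (y k) = true)
    (hq0 : ∀ k, R.q (w k) = qv l (u0 k)) (hq1 : ∀ k, R.q (y k) = qv l (u1 k)) :
    R.Frame (mkE w y) l := by
  have tab : ∀ k k' : Fin 4, fv (u0 k) (u0 k') = false ∧ fv (u1 k) (u1 k') = false ∧
      (fv (u0 k) (u1 k') = if k = k' then true else false) ∧
      (fv (u1 k) (u0 k') = if k = k' then true else false) := by decide +kernel
  constructor
  · intro i j
    obtain ⟨k, hi⟩ := ix_cases i
    obtain ⟨k', hj⟩ := ix_cases j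
    obtain ⟨t0, t1, t2, t3⟩ := tab k k'
    have hne : ∀ {a b : V}, k ≠ k' → a ∈ piece R d (chr (idx k)) →
        b ∈ piece R d (chr (idx k')) → R.B a b = false :=
      fun h ha hb => A.sep (fun e => h (hinj e)) ha hb
    rcases hi with rfl | rfl <;> rcases hj with rfl | rfl <;>
      simp only [mkE_ix0, mkE_ix1]
    · show _ = fv (u0 k) (u0 k'); rw [t0]
      by_cases h : k = k'
      · rw [h, R.B_self]
      · exact hne h (hw k) (hw k')
    · show _ = fv (u0 k) (u1 k'); rw [t2]
      by_cases h : k = k'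
      · rw [if_pos h, ← h, hB]
      · rw [if_neg h]; exact hne h (hw k) (hy k')
    · show _ = fv (u1 k) (u0 k'); rw [t3]
      by_cases h : k = k'
      · rw [if_pos h, ← h, R.B_comm, hB]
      · rw [if_neg h]; exact hne h (hy k) (hw k')
    · show _ = fv (u1 k) (u1 k'); rw [t1]
      by_cases h : k = k'
      · rw [h, R.B_self]
      · exact hne h (hy k) (hy k')
  · intro j
    obtain ⟨k, rfl | rfl⟩ := ix_cases j
    · rw [mkE_ix0]; exact hq0 k
    · rw [mkE_ix1]; exact hq1 k

/-- The three elements on a vector of a plane. -/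
theorem d_act (A : Tri R d) {i : Fin 14} {o : Fin 4} (P : Plane R d i o) {v : V}
    (hv : v ∈ piece R d (chr i)) (hv0 : v ≠ 0) (j : Fin 4) :
    R.act (d j) v = (if dot (chr i) (ev j) = 0 then v else
      if dot (chr i) (ev j) = dot (chr i) (ev o) then R.act (d o) v else v + R.act (d o) v) ∧
    R.act (d j) (R.act (d o) v) = (if dot (chr i) (ev j) = 0 then R.act (d o) v else
      if dot (chr i) (ev j) = dot (chr i) (ev o) then v + R.act (d o) v else v) := by
  have h2 := A.twice P hv hv0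
  have hc : ∀ w, R.act (d j) (R.act (d o) w) = R.act (d o) (R.act (d j) w) := fun w =>
    R.act_comm (A.comm j o) w
  by_cases h0 : dot (chr i) (ev j) = 0
  · rw [if_pos h0, if_pos h0, hc, A.d_fix hv h0]
    exact ⟨rfl, rfl⟩
  by_cases h1 : dot (chr i) (ev j) = dot (chr i) (ev o)
  · rw [if_neg h0, if_neg h0, if_pos h1, if_pos h1, hc, A.d_eq hv h1]
    exact ⟨rfl, h2⟩
  · have key : ∀ p q : ZMod 3, p ≠ 0 → q ≠ 0 → p ≠ q → q + q = p := by decide
    rw [if_neg h0, if_neg h0, if_neg h1, if_neg h1, hc, A.d_inv hv (key _ _ h0 P.moved h1), h2,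
      R.act_add, h2]
    refine ⟨rfl, ?_⟩
    have e : R.act (d o) v + (v + R.act (d o) v) = v + (R.act (d o) v + R.act (d o) v) := by abel
    rw [e, R.two, add_zero]

end

/-- The exponents after an outer involution. -/
def xsig (t : Ex) : Ex := ![-t 0, -t 1, t 2]

variable {r a b f u x : Q}

theorem xsig_xsig : ∀ t, xsig (xsig t) = t := by decide +kernel

theorem x_el (C : Core r a b f u) (O : Out r a b f u x) (t : Ex) :
    x * el (dd r a b) t = el (dd r a b) (xsig t) * x := by
  have key : ∀ c : ZMod 3, (2 * c.val) % 3 = (-c).val := by decide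
  have e : ∀ {g : Q}, g * g * g = 1 → ∀ c : ZMod 3, (g * g) ^ c.val = g ^ (-c).val := by
    intro g hg c
    have h3 : g ^ 3 = 1 := by rw [pow_succ, pow_two, hg]
    rw [← pow_two, ← pow_mul, pow_eq_pow_mod _ h3, key]
  have hr : SemiconjBy x r (r * r) := O.xr
  have ha : SemiconjBy x a (a * a) := O.xa
  have hb : SemiconjBy x b b := O.xb
  have h : x * (r ^ (t 0).val * a ^ (t 1).val * b ^ (t 2).val) =
      (r * r) ^ (t 0).val * (a * a) ^ (t 1).val * b ^ (t 2).val * x :=
    ((hr.pow_right (t 0).val).mul_right (ha.pow_right (t 1).val)).mul_right (hb.pow_right (t 2).val)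
  rw [e C.r3, e C.a3] at h
  exact h

theorem x_mem (C : Core r a b f u) (O : Out r a b f u x) {p q : Ex}
    (h : ∀ t, dot p (xsig t) = 0 ↔ dot q t = 0) {v : V} (hv : v ∈ piece R (dd r a b) p) :
    R.act x v ∈ piece R (dd r a b) q := by
  intro t
  have e : ∀ w, R.act (el (dd r a b) t) (R.act x w) =
      R.act x (R.act (el (dd r a b) (xsig t)) w) := fun w => by
    rw [← R.act_mul, ← R.act_mul, x_el C O, xsig_xsig]
  constructor
  · intro ht
    rw [e, (hv _).1 ((h t).2 ht)]
  · intro ht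
    rw [Rep.F, e, e, ← R.act_add, ← R.act_add]
    have := (hv (xsig t)).2 fun h' => ht ((h t).1 h')
    rw [Rep.F] at this
    rw [this, R.act_zero]

/-- An element commuting with one inverted by `x`. -/
theorem x_move {g : Q} (h3 : g * g * g = 1) (hx : x * g = g * g * x) {v : V}
    (h : R.act g (R.act g (R.act x v)) = R.act x v + R.act g (R.act x v)) :
    R.act x (R.act g v) = R.act x v + R.act g (R.act x v) := by
  rw [← R.act_mul, hx, R.act_mul, R.act_mul, h]

theorem q_vec {e : Fin 8 → V} {l : ℕ} (Fr : R.Frame e l) : ∀ n < 256, R.q (vec e n) = qv l n := by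
  intro n
  induction n using Nat.strong_induction_on with
  | _ n ih =>
    intro hn
    rcases unit_step n hn with rfl | ⟨j, hj⟩
    · have h := R.q_add (0 : V) 0
      rw [add_zero, R.B_self, Bool.xor_false, Bool.xor_self] at h
      rw [vec_zero, h, qv_zero]
    · have e1 : n = (n ^^^ 2 ^ (j : ℕ)) ^^^ 2 ^ (j : ℕ) := by
        rw [Nat.xor_assoc, Nat.xor_self, Nat.xor_zero]
      conv_lhs => rw [e1, R.vec_xor, R.q_add, ih _ hj (hj.trans hn), vec_unit, Fr.q_e,
        Fr.B_vec _ _ (hj.trans hn)]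
      conv_rhs => rw [e1, qv_xor]

theorem B_vec2 {e : Fin 8 → V} {l : ℕ} (Fr : R.Frame e l) {m n : ℕ} (hm : m < 256) (hn : n < 256) :
    R.B (vec e m) (vec e n) = fv m n := by
  have h := R.q_add (vec e m) (vec e n)
  rw [← R.vec_xor, q_vec Fr _ (Nat.xor_lt_two_pow (n := 8) hm hn), q_vec Fr _ hm, q_vec Fr _ hn,
    qv_xor] at h
  revert h
  cases qv l m <;> cases qv l n <;> cases fv m n <;> cases R.B (vec e m) (vec e n) <;> simp

/-- The codes of an element preserve the form. -/
theorem code_form {e : Fin 8 → V} {l g : ℕ} {y : Q} (Fr : R.Frame e l) (hg : R.Moves e g y) {m n : ℕ}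
    (hm : m < 256) (hn : n < 256) :
    qv l (app g m) = qv l m ∧ fv (app g m) (app g n) = fv m n := by
  constructor
  · rw [← q_vec Fr _ (app_lt _ _), ← R.moves_vec hg m hm, R.q_act, q_vec Fr _ hm]
  · rw [← B_vec2 Fr (app_lt _ _) (app_lt _ _), ← R.moves_vec hg m hm, ← R.moves_vec hg n hn, R.B_act,
      B_vec2 Fr hm hn]

/-- The conditions on the code of `u`. -/
theorem condC_of (C : Core r a b f u) {e : Fin 8 → V} {l cr ca cb cf g : ℕ} (Fr : R.Frame e l)
    (hr : R.Moves e cr r) (ha : R.Moves e ca a) (hb : R.Moves e cb b) (hf : R.Moves e cf f)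
    (hg : R.Moves e g u) : condC cr ca cb cf g = true := by
  have hH := R.moves_mul hf hf
  have hp := R.moves_mul hg ha
  have hq := R.moves_mul hg hb
  have hs := R.moves_mul hp hb
  have one : ∀ {c : ℕ} {y : Q}, R.Moves e c y → IsCode c → y = 1 → c = idm := fun hc hcode h =>
    Fr.moves_unique hcode isCode_idm hc (h ▸ R.moves_one e)
  simp only [condC, Bool.and_eq_true, Nat.beq_eq]
  refine ⟨⟨⟨⟨⟨⟨Fr.code_eq hg hr hr hg C.ur, Fr.code_eq hg hH hH hg C.uh⟩,
    Fr.code_eq hf hg (R.moves_mul hg hH) hf C.fu⟩, ?_⟩, ?_⟩, ?_⟩, ?_⟩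
  · exact one (R.moves_mul (R.moves_mul hp hp) hp) (isCode_cmp _ _) C.ua
  · exact one (R.moves_mul (R.moves_mul hq hq) (R.moves_mul hq hq)) (isCode_cmp _ _) C.ub
  · exact one (R.moves_mul (R.moves_mul (R.moves_mul (R.moves_mul hs hs) hs) hs) hs) (isCode_cmp _ _)
      C.uab
  · exact one (R.moves_mul hg hg) (isCode_cmp _ _) C.u2

/-- The code of `f` is the value of the word. -/
theorem word_code (C : Core r a b f u) {e : Fin 8 → V} {l ca cb cf g : ℕ} (Fr : R.Frame e l)
    (hcf : IsCode cf)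
    (ha : R.Moves e ca a) (hb : R.Moves e cb b) (hf : R.Moves e cf f)
    (hg : R.Moves e g u) : cf = wordC ca cb g := by
  have h := R.moves_mul (R.moves_mul (R.moves_mul (R.moves_mul (R.moves_mul (R.moves_mul (R.moves_mul
    (R.moves_mul (R.moves_mul hb hg) ha) hb) hg) ha) ha) hb) hg) hb
  rw [C.word] at h
  exact Fr.moves_unique hcf (isCode_cmp _ _) hf h

end Cfsg.Agent.U62Rec.S36
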