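import Mathlib

/-!
# Generators of the even part of `S₃ × S₆`

Two tuples `r, a, b, f, u, x` with the same relations: `a, b` are commuting 3-cycles in one and
products of two in the other.
-/

set_option autoImplicit false
set_option maxRecDepth 100000

namespace Cfsg.Agent.U62Rec.S36

/-- The relations of `r, a, b, f, u` (a group `3 × A₆`). -/
structure Core {Q : Type*} [Group Q] (r a b f u : Q) : Prop where
  r3 : r * r * r = 1
  a3 : a * a * a = 1
  b3 : b * b * b = 1
  ra : r * a = a * r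
  rb : r * b = b * r
  ab : a * b = b * a
  f4 : f * f * (f * f) = 1
  fa : f * a = b * f
  fb : f * b = a * a * f
  fr : f * r = r * f
  u2 : u * u = 1
  ur : u * r = r * u
  uh : u * (f * f) = f * f * u
  fu : f * u = u * (f * f) * f
  ua : u * a * (u * a) * (u * a) = 1
  ub : u * b * (u * b) * (u * b * (u * b)) = 1
  uab : u * a * b * (u * a * b) * (u * a * b) * (u * a * b) * (u * a * b) = 1
  word : b * u * a * b * u * a * a * b * u * b = f
  r_ne : r ≠ 1
  a_ne : a ≠ 1
  b_ne : b ≠ 1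

/-- The relations of an outer involution. -/
structure Out {Q : Type*} [Group Q] (r a b f u x : Q) : Prop where
  sq : x * x = 1
  xr : x * r = r * r * x
  xa : x * a = a * a * x
  xb : x * b = b * x
  xu : x * u = u * x
  xf : x * f = f * f * f * x

/-- A generating tuple with the relations. -/
structure Gens {Q : Type*} [Group Q] (T : Fin 6 → Q) : Prop where
  core : Core (T 0) (T 1) (T 2) (T 3) (T 4)
  out : Out (T 0) (T 1) (T 2) (T 3) (T 4) (T 5)
  gen : Subgroup.closure (Set.range T) = ⊤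

theorem Gens.map {P Q : Type*} [Group P] [Group Q] {T : Fin 6 → P} (h : Gens T) (e : P ≃* Q) :
    Gens (e ∘ T) where
  core := by
    obtain ⟨h1, h2, h3, h4, h5, h6, h7, h8, h9, h10, h11, h12, h13, h14, h15, h16, h17, h18, h19, h20,
      h21⟩ := h.core
    constructor <;> simp only [Function.comp_apply, ne_eq, ← map_mul, ← map_one e,
      EmbeddingLike.apply_eq_iff_eq] <;> assumption
  out := by
    obtain ⟨h1, h2, h3, h4, h5, h6⟩ := h.out
    constructor <;> simp only [Function.comp_apply, ← map_mul, ← map_one e,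
      EmbeddingLike.apply_eq_iff_eq] <;> assumption
  gen := by
    rw [Set.range_comp, ← MonoidHom.coe_coe, ← MonoidHom.map_closure, h.gen]
    exact Subgroup.map_top_of_surjective _ e.surjective

open Equiv (Perm swap)

/-- The product. -/
abbrev P6 := Perm (Fin 3) × Perm (Fin 6)

/-- The product of the two signs. -/
noncomputable abbrev sgn2 : P6 →* ℤˣ :=
  Equiv.Perm.sign.comp (MonoidHom.fst (Equiv.Perm (Fin 3)) (Equiv.Perm (Fin 6))) *
    Equiv.Perm.sign.comp (MonoidHom.snd (Equiv.Perm (Fin 3)) (Equiv.Perm (Fin 6)))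

/-- The even part. -/
abbrev PM := ↥(MonoidHom.ker sgn2)

/-- The elements of the first tuple. -/
def val0 : Fin 6 → P6 :=
  ![(swap 0 1 * swap 1 2, 1), (1, swap 0 1 * swap 1 2), (1, swap 3 4 * swap 4 5),
    (1, swap 0 1 * (swap 0 3 * swap 1 4 * swap 2 5)), (1, swap 0 1 * swap 2 5), (swap 0 1, swap 0 1)]

/-- The elements of the second tuple. -/
def val1 : Fin 6 → P6 :=
  ![(swap 0 1 * swap 1 2, 1), val0 1 * val0 2, val0 1 * (val0 2 * val0 2),
    val0 3 * val0 3 * val0 3, (1, swap 0 3 * swap 1 4), (swap 0 1, swap 0 4 * swap 1 3 * swap 2 5)]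

theorem val0_even : ∀ i, val0 i ∈ MonoidHom.ker sgn2 := by
  intro i
  rw [MonoidHom.mem_ker]
  revert i
  decide +kernel

theorem val1_even : ∀ i, val1 i ∈ MonoidHom.ker sgn2 := by
  intro i
  rw [MonoidHom.mem_ker]
  revert i
  decide +kernel

/-- The first tuple. -/
def tup0 (i : Fin 6) : PM := ⟨val0 i, val0_even i⟩

/-- The second tuple. -/
def tup1 (i : Fin 6) : PM := ⟨val1 i, val1_even i⟩

/-- Words giving the pairs of a transposition with a fixed one. -/
def words0 : List (List (Fin 6)) :=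
  [[5],
  [1, 5],
  [1, 2, 4, 1, 2, 2, 5],
  [1, 2, 2, 4, 1, 2, 5],
  [1, 4, 1, 5],
  [5, 1],
  [2, 4, 1, 4, 2, 2, 5],
  [2, 2, 4, 1, 4, 2, 5],
  [4, 1, 4, 5],
  [2, 4, 2, 2, 5],
  [2, 2, 4, 2, 5],
  [4, 5],
  [3, 3, 5],
  [2, 3, 3, 5],
  [3, 3, 2, 5]]

/-- The same in the second tuple. -/
def words1 : List (List (Fin 6)) :=
  [[3, 5],
  [3, 2, 5, 1],
  [1, 3, 3, 4, 1, 5],
  [4, 2, 4, 2, 5],
  [4, 2, 5, 1, 3, 4],
  [1, 2, 3, 5],
  [2, 4, 2, 4, 5],
  [3, 2, 3, 4, 5, 1],
  [3, 4, 1, 2, 4, 5],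
  [4, 3, 2, 5, 1, 4],
  [4, 1, 2, 3, 4, 5],
  [3, 3, 4, 5],
  [5, 3],
  [2, 5, 1, 3],
  [1, 2, 2, 5, 3]]

/-- The transpositions. -/
def pairs6 : List (Fin 6 × Fin 6) :=
  [(0, 1), (0, 2), (0, 3), (0, 4), (0, 5), (1, 2), (1, 3), (1, 4), (1, 5), (2, 3), (2, 4), (2, 5), (3, 4),
    (3, 5), (4, 5)]

theorem pairs6_all : ∀ i j : Fin 6, i ≠ j → (i, j) ∈ pairs6 ∨ (j, i) ∈ pairs6 := by decide +kernel

theorem three_cases : ∀ s : Perm (Fin 3), Equiv.Perm.sign s = 1 →
    ∃ k : Fin 3, s = (swap 0 1 * swap 1 2) ^ (k : ℕ) := by decide +kernel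

theorem gen_of_words (v : Fin 6 → P6) (hv : ∀ i, v i ∈ MonoidHom.ker sgn2)
    (hr : v 0 = (swap 0 1 * swap 1 2, 1)) (W : List (List (Fin 6)))
    (hW : W.map (fun w => (w.map v).prod) = pairs6.map (fun p => (swap 0 1, swap p.1 p.2))) :
    Subgroup.closure (Set.range fun i => (⟨v i, hv i⟩ : PM)) = ⊤ := by
  set H : Subgroup PM := Subgroup.closure (Set.range fun i => (⟨v i, hv i⟩ : PM))
  have hi : ∀ i, v i ∈ H.map (MonoidHom.ker sgn2).subtype := fun i =>
    ⟨_, Subgroup.subset_closure ⟨i, rfl⟩, rfl⟩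
  have hsw : ∀ i j : Fin 6, i ≠ j → ((swap 0 1, swap i j) : P6) ∈ H.map (MonoidHom.ker sgn2).subtype := by
    have key : ∀ p ∈ pairs6, ((swap 0 1, swap p.1 p.2) : P6) ∈ H.map (MonoidHom.ker sgn2).subtype := by
      intro p hp
      have hm := List.mem_map_of_mem (f := fun p : Fin 6 × Fin 6 => ((swap 0 1, swap p.1 p.2) : P6)) hp
      rw [← hW] at hm
      obtain ⟨w, -, e⟩ := List.mem_map.1 hm
      rw [← e]
      exact list_prod_mem fun x hx => by obtain ⟨i, -, rfl⟩ := List.mem_map.1 hx; exact hi i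
    intro i j hij
    rcases pairs6_all i j hij with h | h
    · exact key _ h
    · rw [Equiv.swap_comm i j]; exact key _ h
  have hlift : ∀ t : Perm (Fin 6), ∃ s : Perm (Fin 3),
      ((s, t) : P6) ∈ H.map (MonoidHom.ker sgn2).subtype := by
    intro t
    induction t using Equiv.Perm.swap_induction_on with
    | one => exact ⟨1, one_mem _⟩
    | swap_mul t i j hij ih =>
      obtain ⟨s, hs⟩ := ih
      exact ⟨_, mul_mem (hsw i j hij) hs⟩
  rw [eq_top_iff]
  rintro ⟨⟨s, t⟩, hst⟩ -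
  obtain ⟨s', hs'⟩ := hlift t
  have hs'' : ((s', t) : P6) ∈ MonoidHom.ker sgn2 := Subgroup.map_subtype_le _ hs'
  rw [MonoidHom.mem_ker] at hst hs''
  simp only [sgn2, MonoidHom.mul_apply, MonoidHom.comp_apply, MonoidHom.coe_fst,
    MonoidHom.coe_snd] at hst hs''
  obtain ⟨k, hk⟩ := three_cases (s * s'⁻¹) (by
    rw [map_mul, map_inv, mul_inv_eq_one]; exact mul_right_cancel (hst.trans hs''.symm))
  have hmem : ((s, t) : P6) ∈ H.map (MonoidHom.ker sgn2).subtype := by
    have e : ((s, t) : P6) = v 0 ^ (k : ℕ) * (s', t) := by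
      rw [hr, Prod.pow_mk, ← hk, one_pow, Prod.mk_mul_mk, inv_mul_cancel_right, one_mul]
    rw [e]
    exact mul_mem (pow_mem (hi 0) _) hs'
  obtain ⟨p, hp, e⟩ := hmem
  rwa [show p = ⟨(s, t), by rwa [MonoidHom.mem_ker]⟩ from Subtype.ext e] at hp

theorem gens0 : Gens tup0 where
  core := by constructor <;> decide +kernel
  out := by constructor <;> decide +kernel
  gen := gen_of_words val0 val0_even rfl words0 (by decide +kernel)

theorem gens1 : Gens tup1 where
  core := by constructor <;> decide +kernel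
  out := by constructor <;> decide +kernel
  gen := gen_of_words val1 val1_even rfl words1 (by decide +kernel)

/-- The change of exponents between the tuples. -/
theorem tup1_rab : tup1 0 = tup0 0 ∧ tup1 1 = tup0 1 * tup0 2 ∧ tup1 2 = tup0 1 * (tup0 2 * tup0 2) := by
  decide +kernel

end Cfsg.Agent.U62Rec.S36
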