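import Cfsg.Agent.U62Rec.PlaneFacts
import Cfsg.Agent.U62Rec.Frame

/-!
# Eigenspaces of three commuting elements of order 3

The lemmas on eigenspaces, for three commuting elements and the inverse of their product.
-/

set_option autoImplicit false
set_option maxRecDepth 100000
set_option maxHeartbeats 1000000

namespace Cfsg.Agent.U62Rec

open Act3 (el piece sumMap Inp ev Plane)

/-- Three commuting elements of order dividing 3 and the inverse of their product. -/
structure Tri {Q : Type*} [Group Q] {V : Type*} [AddCommGroup V] (R : Rep Q V)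
    (d : Fin 4 → Q) : Prop where
  cube : ∀ i, d i * d i * d i = 1
  comm : ∀ i j, d i * d j = d j * d i
  prod : d 0 * d 1 * d 2 * d 3 = 1

namespace Tri

variable {Q : Type*} [Group Q] {V : Type*} [AddCommGroup V] {R : Rep Q V} {d : Fin 4 → Q}
  (A : Tri R d)
include A

theorem el_add (x y : Ex) : el d (x + y) = el d x * el d y := by
  have hp : ∀ i (a b : ZMod 3), d i ^ (a + b).val = d i ^ a.val * d i ^ b.val := by
    intro i a b
    rw [← pow_add, ZMod.val_add, ← pow_eq_pow_mod]
    rw [pow_succ, pow_two]; exact A.cube i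
  have c : ∀ i j (m n : ℕ), Commute (d i ^ m) (d j ^ n) := fun i j m n =>
    (show Commute (d i) (d j) from A.comm i j).pow_pow m n
  simp only [el, Pi.add_apply, hp]
  set a0 := d 0 ^ (x 0).val
  set b0 := d 0 ^ (y 0).val
  set a1 := d 1 ^ (x 1).val
  set b1 := d 1 ^ (y 1).val
  set a2 := d 2 ^ (x 2).val
  set b2 := d 2 ^ (y 2).val
  have h1 : Commute b0 a1 := c _ _ _ _
  have h2 : Commute b0 a2 := c _ _ _ _
  have h3 : Commute b1 a2 := c _ _ _ _
  calc a0 * b0 * (a1 * b1) * (a2 * b2) = a0 * (b0 * a1) * (b1 * a2) * b2 := by group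
    _ = a0 * a1 * (b0 * a2) * b1 * b2 := by rw [h1.eq, h3.eq]; group
    _ = a0 * a1 * a2 * (b0 * b1 * b2) := by rw [h2.eq]; group

theorem el_comm (x y : Ex) : Commute (el d x) (el d y) := by
  show _ = _
  rw [← A.el_add, ← A.el_add, add_comm]

theorem el_cube (x : Ex) : el d x * el d x * el d x = 1 := by
  have e : x + x + x = 0 := by
    revert x; decide
  rw [← A.el_add, ← A.el_add, e, Act3.el_zero]

theorem el_d3 : el d (fun _ => -1) = d 3 := by
  have e : el d (fun _ => (1 : ZMod 3)) = d 0 * d 1 * d 2 := by simp [el, ZMod.val_one]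
  have h1 : el d (fun _ => -1) * el d (fun _ => (1 : ZMod 3)) = 1 := by
    rw [← A.el_add, ← Act3.el_zero (d := d)]; congr 1
  rw [eq_inv_of_mul_eq_one_left h1, e]
  exact inv_eq_of_mul_eq_one_right A.prod

theorem act_el_add (x y : Ex) (v : V) :
    R.act (el d (x + y)) v = R.act (el d x) (R.act (el d y) v) := by
  rw [A.el_add, R.act_mul]

/-- A pure vector lies in an eigenspace. -/
theorem pure_mem {v : V} (hp : ∀ t, R.act (el d t) v = v ∨ R.F (el d t) v = 0) :
    ∃ i, v ∈ piece R d (chr i) := by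
  by_cases hv : v = 0
  · exact ⟨0, hv ▸ AddSubgroup.zero_mem _⟩
  by_cases hall : ∀ t, R.act (el d t) v = v
  · exact ⟨0, fun t => ⟨fun _ => hall t, fun h => absurd (by revert t; decide) h⟩⟩
  push Not at hall
  obtain ⟨t0, ht0⟩ := hall
  have hF0 := (hp t0).resolve_left ht0
  have hex : ∀ i, ∃ c : ZMod 3, R.act (el d (eu i)) v = R.act (el d (c • t0)) v := by
    intro i
    rcases hp (eu i) with e | e
    · exact ⟨0, by rw [zero_smul, Act3.el_zero, R.act_one, e]⟩
    have hor := R.fix_or (A.el_comm (eu i) t0) (A.el_cube t0) hv hF0 e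
      (by rw [← A.el_add]; exact hp _) (by rw [← A.el_add, ← A.el_add]; exact hp _)
    rw [← A.el_add, ← A.el_add] at hor
    rcases hor with h | h
    · refine ⟨2, ?_⟩
      have e2 : eu i = (2 : ZMod 3) • t0 + (eu i + t0) :=
        (by decide : ∀ x y : Ex, x = (2 : ZMod 3) • y + (x + y)) _ _
      conv_lhs => rw [e2, A.act_el_add, h]
    · refine ⟨1, ?_⟩
      have e2 : eu i = (1 : ZMod 3) • t0 + (eu i + t0 + t0) :=
        (by decide : ∀ x y : Ex, x = (1 : ZMod 3) • y + (x + y + y)) _ _
      conv_lhs => rw [e2, A.act_el_add, h]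
  choose c hc using hex
  set a : Ex := c with ha
  have key : ∀ t, R.act (el d t) v = R.act (el d (dot a t • t0)) v := by
    let T : AddSubmonoid Ex :=
      { carrier := {t | R.act (el d t) v = R.act (el d (dot a t • t0)) v}
        zero_mem' := by simp [dot]
        add_mem' := fun {x y} hx hy => by
          show R.act (el d (x + y)) v = _
          rw [A.act_el_add, hy, R.act_comm (A.el_comm _ _), hx, ← A.act_el_add, ← add_smul,
            show dot a y + dot a x = dot a (x + y) by simp [dot]; ring] }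
    have hu : ∀ i, eu i ∈ T := fun i => by
      show _ = _
      rw [hc i, show dot a (eu i) = c i by fin_cases i <;> simp [dot, eu, ha]]
    intro t
    have hn : ∀ (n : ℕ) i, n • eu i ∈ T := fun n i => T.nsmul_mem (hu i) n
    have et : t = (t 0).val • eu 0 + (t 1).val • eu 1 + (t 2).val • eu 2 := by
      revert t; decide
    have := T.add_mem (T.add_mem (hn (t 0).val 0) (hn (t 1).val 1)) (hn (t 2).val 2)
    rw [← et] at this
    exact this
  obtain ⟨i, hi⟩ := chr_all a
  refine ⟨i, fun t => ?_⟩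
  rw [← hi t]
  constructor
  · intro h; rw [key, h, zero_smul, Act3.el_zero, R.act_one]
  · intro h
    replace h : dot a t ≠ 0 := fun e => h ((hi t).1 e)
    refine (hp t).resolve_left fun e => ?_
    rw [key] at e
    have hc' : ∀ (y : Ex) (x : ZMod 3), x ≠ 0 → x • y = y ∨ x • y + x • y = y := by decide
    rcases hc' t0 _ h with h' | h'
    · rw [h'] at e; exact ht0 e
    · rw [← h', A.act_el_add, e, e] at ht0; exact ht0 rfl

theorem span : ∀ v, v ∈ ⨆ i, piece R d (chr i) := by
  classical
  refine R.pure_induct ((Finset.univ : Finset Ex).toList.map (el d)) ?_ ?_ _ fun v hv => ?_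
  · simp only [List.mem_map]
    rintro g ⟨t, -, rfl⟩
    exact A.el_cube t
  · simp only [List.mem_map]
    rintro g ⟨t, -, rfl⟩ h ⟨t', -, rfl⟩
    exact A.el_comm t t'
  · obtain ⟨i, hi⟩ := A.pure_mem (v := v) fun t => hv _ (List.mem_map.2 ⟨t, by simp, rfl⟩)
    exact AddSubgroup.mem_iSup_of_mem i hi

theorem proj (i : Fin 14) : ∃ f : V → V, (∀ v w, f (v + w) = f v + f w) ∧
    (∀ v ∈ piece R d (chr i), f v = v) ∧ ∀ j ≠ i, ∀ v ∈ piece R d (chr j), f v = 0 := by
  by_cases hi : i = 0
  · subst hi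
    refine ⟨fun v => R.F (el d (eu 0)) (R.F (el d (eu 1)) (R.F (el d (eu 2)) v)), fun v w => by
      simp only [R.F_add], fun v hv => ?_, fun j hj v hv => ?_⟩
    · have h := fun k => (hv (eu k)).1 (by revert k; decide)
      simp only [R.F_of_fix (h _)]
    · have hk : ∀ j : Fin 14, j ≠ 0 →
          dot (chr j) (eu 2) ≠ 0 ∨ dot (chr j) (eu 1) ≠ 0 ∨ dot (chr j) (eu 0) ≠ 0 := by
        decide +kernel
      show R.F (el d (eu 0)) (R.F (el d (eu 1)) (R.F (el d (eu 2)) v)) = 0
      rcases hk j hj with h | h | h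
      · simp only [(hv _).2 h, R.F_zero]
      · rw [R.F_F (A.el_comm (eu 1) (eu 2)), (hv _).2 h, R.F_zero, R.F_zero]
      · rw [R.F_F (A.el_comm (eu 1) (eu 2)), R.F_F (A.el_comm (eu 0) (eu 2)),
          R.F_F (A.el_comm (eu 0) (eu 1)), (hv _).2 h, R.F_zero, R.F_zero]
  obtain ⟨h1, h2, h3, hsep⟩ := kb_ok i hi
  set k1 := el d (kb i).1
  set k2 := el d (kb i).2.1
  set o := el d (kb i).2.2
  refine ⟨fun v => R.F k1 (R.F k2 (v + R.F o v)), fun v w => ?_, fun v hv => ?_, fun j hj v hv => ?_⟩
  · simp only [R.F_add]; abel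
  · show R.F k1 (R.F k2 (v + R.F o v)) = v
    rw [(hv _).2 h3, add_zero, R.F_of_fix ((hv _).1 h2), R.F_of_fix ((hv _).1 h1)]
  · show R.F k1 (R.F k2 (v + R.F o v)) = 0
    rcases hsep j hj with h | h | h
    · rw [R.F_F (A.el_comm (kb i).1 (kb i).2.1), R.F_add, R.F_F (A.el_comm (kb i).1 (kb i).2.2),
        (hv _).2 h, R.F_zero, add_zero, R.F_zero]
    · rw [R.F_add, R.F_F (A.el_comm (kb i).2.1 (kb i).2.2), (hv _).2 h, R.F_zero, add_zero,
        R.F_zero]
    · subst h
      rw [R.F_of_fix ((hv _).1 (by simp [dot, chr])), R.two, R.F_zero, R.F_zero]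

theorem sumMap_bijective : Function.Bijective (sumMap R d) := by
  classical
  constructor
  · intro g g' hg
    funext i
    obtain ⟨f, hadd, hid, hz⟩ := A.proj i
    have key : ∀ g : (i : Fin 14) → ↥(piece R d (chr i)), f (sumMap R d g) = g i := by
      intro g
      have f0 : f 0 = 0 := by simpa using hadd 0 0
      let F' : V →+ V := { toFun := f, map_zero' := f0, map_add' := hadd }
      show F' (∑ j, (g j : V)) = _
      rw [map_sum, Finset.sum_eq_single i]
      · exact hid _ (g i).2
      · exact fun j _ hj => hz j hj _ (g j).2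
      · simp
    exact Subtype.ext (by rw [← key g, ← key g', hg])
  · intro v
    let S : AddSubgroup V :=
      { carrier := Set.range (sumMap R d)
        zero_mem' := ⟨0, by simp [sumMap]⟩
        add_mem' := by
          rintro _ _ ⟨g, rfl⟩ ⟨g', rfl⟩
          exact ⟨g + g', by simp [sumMap, Finset.sum_add_distrib]⟩
        neg_mem' := fun {x} hx => by rw [R.neg_eq]; exact hx }
    refine (iSup_le (a := S) fun i x hx => ?_) (A.span v)
    exact ⟨Pi.single i ⟨x, hx⟩, by
      show ∑ j, ((Pi.single i ⟨x, hx⟩ : (j : Fin 14) → ↥(piece R d (chr j))) j : V) = x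
      rw [Finset.sum_eq_single i]
      · simp
      · intro j _ hj; simp [Pi.single_eq_of_ne hj]
      · simp⟩

theorem card_eq : ∏ i, Nat.card ↥(piece R d (chr i)) = 256 := by
  classical
  rw [← R.card, ← Nat.card_congr (Equiv.ofBijective _ A.sumMap_bijective), Nat.card_pi]

theorem four_le {i : Fin 14} (hi : i ≠ 0) {v : V} (hv : v ∈ piece R d (chr i)) (hv0 : v ≠ 0) :
    4 ≤ Nat.card ↥(piece R d (chr i)) := by
  classical
  have hVf : Finite V := Nat.finite_of_card_ne_zero (by rw [R.card]; norm_num)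
  obtain ⟨-, -, h3, -⟩ := kb_ok i hi
  set o := el d (kb i).2.2
  have hF := (hv _).2 h3
  have hne1 : R.act o v ≠ v := fun e => hv0 (by rw [← R.F_of_fix e, hF])
  have hne2 : R.act o (R.act o v) ≠ v := fun e => hne1 (by
    have := congrArg (R.act o) e
    rw [← R.act_mul, ← R.act_mul, A.el_cube, R.act_one] at this
    exact this.symm)
  have hne3 : R.act o (R.act o v) ≠ R.act o v := fun e => hne1 (R.act_inj o e)
  have hmem : ∀ w ∈ piece R d (chr i), R.act o w ∈ piece R d (chr i) := fun w hw t =>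
    ⟨fun ht => by rw [R.act_comm (A.el_comm _ _), (hw t).1 ht],
      fun ht => by rw [R.F_act (A.el_comm _ _), (hw t).2 ht, R.act_zero]⟩
  have hsub : ({0, v, R.act o v, R.act o (R.act o v)} : Set V) ⊆ piece R d (chr i) := by
    rintro x (rfl | rfl | rfl | rfl)
    exacts [AddSubgroup.zero_mem _, hv, hmem _ hv, hmem _ (hmem _ hv)]
  have hn := Set.ncard_le_ncard hsub (Set.toFinite _)
  have z1 : R.act o v ≠ 0 := fun e => hv0 (R.act_inj o (e.trans (R.act_zero o).symm))
  have z2 : R.act o (R.act o v) ≠ 0 := fun e => z1 (R.act_inj o (e.trans (R.act_zero o).symm))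
  rw [Set.ncard_insert_of_notMem (by simp [hv0.symm, z1.symm, z2.symm]),
    Set.ncard_insert_of_notMem (by simp [hne1.symm, hne2.symm]),
    Set.ncard_pair hne3.symm] at hn
  exact hn

theorem el_ev (i : Fin 4) : el d (ev i) = d i := by
  fin_cases i
  · exact Act3.el_eu 0
  · exact Act3.el_eu 1
  · exact Act3.el_eu 2
  · exact A.el_d3

theorem act_eq {a x y : Ex} {v : V} (hv : v ∈ piece R d a) (h : dot a x = dot a y) :
    R.act (el d x) v = R.act (el d y) v := by
  have e : dot a (x - y) = 0 := by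
    have e' : dot a (x - y) = dot a x - dot a y := by simp [dot]; ring
    rw [e', h, sub_self]
  rw [show x = y + (x - y) by abel, A.act_el_add, (hv _).1 e]

theorem d_eq {a : Ex} {v : V} (hv : v ∈ piece R d a) {i j : Fin 4} (h : dot a (ev i) = dot a (ev j)) :
    R.act (d i) v = R.act (d j) v := by
  rw [← A.el_ev i, ← A.el_ev j]; exact A.act_eq hv h

theorem d_fix {a : Ex} {v : V} (hv : v ∈ piece R d a) {i : Fin 4} (h : dot a (ev i) = 0) :
    R.act (d i) v = v := by
  rw [← A.el_ev i]; exact (hv _).1 h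

theorem d_moved {a : Ex} {v : V} (hv : v ∈ piece R d a) {i : Fin 4} (h : dot a (ev i) ≠ 0) :
    R.F (d i) v = 0 := by
  rw [← A.el_ev i]; exact (hv _).2 h

theorem d_inv {a : Ex} {v : V} (hv : v ∈ piece R d a) {i j : Fin 4}
    (h : dot a (ev i) + dot a (ev i) = dot a (ev j)) :
    R.act (d j) v = R.act (d i) (R.act (d i) v) := by
  rw [← A.el_ev i, ← A.el_ev j, ← A.act_el_add]
  refine A.act_eq hv ?_
  rw [← h]; simp [dot]; ring

theorem act_el_mem {a : Ex} {v : V} (hv : v ∈ piece R d a) (t : Ex) :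
    R.act (el d t) v ∈ piece R d a := fun x =>
  ⟨fun hx => by rw [R.act_comm (A.el_comm _ _), (hv x).1 hx],
    fun hx => by rw [R.F_act (A.el_comm _ _), (hv x).2 hx, R.act_zero]⟩

theorem act_d_mem {a : Ex} {v : V} (hv : v ∈ piece R d a) (i : Fin 4) :
    R.act (d i) v ∈ piece R d a := by
  rw [← A.el_ev i]; exact A.act_el_mem hv _

/-- Different eigenspaces are orthogonal. -/
theorem sep {i j : Fin 14} (hij : i ≠ j) {v x : V} (hv : v ∈ piece R d (chr i))
    (hx : x ∈ piece R d (chr j)) : R.B v x = false := by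
  have key : ∀ i j : Fin 14, i ≠ j →
      (∃ t, dot (chr i) t = 0 ∧ dot (chr j) t ≠ 0) ∨ ∃ t, dot (chr j) t = 0 ∧ dot (chr i) t ≠ 0 := by
    decide +kernel
  rcases key i j hij with ⟨t, h1, h2⟩ | ⟨t, h1, h2⟩
  · exact R.orth ((hv t).1 h1) ((hx t).2 h2)
  · rw [R.B_comm]; exact R.orth ((hx t).1 h1) ((hv t).2 h2)

/-- Each nonzero vector of an eigenspace has a partner there. -/
theorem exists_partner {i : Fin 14} {v : V} (hv : v ∈ piece R d (chr i)) (hv0 : v ≠ 0) :
    ∃ w ∈ piece R d (chr i), R.B v w = true := by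
  obtain ⟨x, hx⟩ := R.B_nondeg v hv0
  obtain ⟨g, rfl⟩ := A.sumMap_bijective.2 x
  refine ⟨g i, (g i).2, ?_⟩
  have hsum : ∀ S : Finset (Fin 14), i ∉ S → R.B v (∑ j ∈ S, (g j : V)) = false := by
    intro S
    induction S using Finset.induction_on with
    | empty => intro _; rw [Finset.sum_empty, R.B_comm, R.B_zero]
    | @insert a S ha ih =>
      intro hS
      rw [Finset.mem_insert, not_or] at hS
      rw [Finset.sum_insert ha, R.B_add', A.sep hS.1 hv (g a).2, ih hS.2]
      rfl
  rw [sumMap, ← Finset.add_sum_erase _ _ (Finset.mem_univ i), R.B_add',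
    hsum _ (Finset.notMem_erase _ _), Bool.xor_false] at hx
  exact hx


variable {i : Fin 14} {o : Fin 4} (P : Plane R d i o) {v : V} (hv : v ∈ piece R d (chr i))
  (hv0 : v ≠ 0)
include P

omit hv hv0 in
theorem exists_ne_zero : ∃ w ∈ piece R d (chr i), w ≠ 0 := by
  by_contra h
  push Not at h
  have hc := P.card
  rw [(AddSubgroup.eq_bot_iff_forall _).2 h, AddSubgroup.card_bot] at hc
  omega

include hv hv0

theorem twice : R.act (d o) (R.act (d o) v) = v + R.act (d o) v := by
  have hF := A.d_moved hv P.moved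
  rw [Rep.F, add_eq_zero_iff_eq_neg, R.neg_eq] at hF
  exact hF.symm

theorem moved_ne : R.act (d o) v ≠ v := fun e => hv0 (by
  rw [← R.F_of_fix e, A.d_moved hv P.moved])

theorem act_ne_zero : R.act (d o) v ≠ 0 := fun e =>
  hv0 (R.act_inj _ (e.trans (R.act_zero _).symm))

theorem cases4 {w : V} (hw : w ∈ piece R d (chr i)) :
    w = 0 ∨ w = v ∨ w = R.act (d o) v ∨ w = v + R.act (d o) v := by
  classical
  have hVf : Finite V := Nat.finite_of_card_ne_zero (by rw [R.card]; norm_num)
  set y := R.act (d o) v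
  have hy := A.act_d_mem hv o
  have hyv : y ≠ v := A.moved_ne P hv hv0
  have hy0 : y ≠ 0 := A.act_ne_zero P hv hv0
  have hs : v + y ≠ 0 := fun e => hyv (by
    rw [add_eq_zero_iff_eq_neg, R.neg_eq] at e; exact e.symm)
  have h1 : v + y ≠ v := fun e => hy0 (by simpa using e)
  have h2 : v + y ≠ y := fun e => hv0 (by simpa using e)
  have hsub : ({0, v, y, v + y} : Set V) ⊆ piece R d (chr i) := by
    rintro x (rfl | rfl | rfl | rfl)
    exacts [AddSubgroup.zero_mem _, hv, hy, AddSubgroup.add_mem _ hv hy]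
  have hcard : ({0, v, y, v + y} : Set V).ncard = 4 := by
    rw [Set.ncard_insert_of_notMem (by simp [hv0.symm, hy0.symm, hs.symm]),
      Set.ncard_insert_of_notMem (by simp [hyv.symm, h1.symm]), Set.ncard_pair h2.symm]
  have heq := Set.eq_of_subset_of_ncard_le hsub (by
    rw [hcard, ← Nat.card_coe_set_eq]; exact P.card.le) (Set.toFinite _)
  have : w ∈ ({0, v, y, v + y} : Set V) := heq ▸ hw
  simpa using this

theorem B_self_act : R.B v (R.act (d o) v) = true := by
  obtain ⟨w, hw, h⟩ := A.exists_partner hv hv0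
  rcases A.cases4 P hv hv0 hw with rfl | rfl | rfl | rfl
  · rw [R.B_comm, R.B_zero] at h; cases h
  · rw [R.B_self] at h; cases h
  · exact h
  · rwa [R.B_add', R.B_self, Bool.false_xor] at h

theorem q_true : R.q v = true := by
  have h := R.q_act (d o) (R.act (d o) v)
  rw [A.twice P hv hv0, R.q_add, R.q_act, A.B_self_act P hv hv0] at h
  simpa using h

omit v hv hv0 in
/-- An involution commuting with the mover on the plane is the identity there. -/
theorem invol_id {x : Q} {v : V} (hv : v ∈ piece R d (chr i))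
    (hm : ∀ w ∈ piece R d (chr i), R.act x w ∈ piece R d (chr i))
    (hsq : ∀ w ∈ piece R d (chr i), R.act x (R.act x w) = w)
    (hc : ∀ w ∈ piece R d (chr i), R.act x (R.act (d o) w) = R.act (d o) (R.act x w)) :
    R.act x v = v := by
  by_cases hv0 : v = 0
  · rw [hv0, R.act_zero]
  have h2 := A.twice P hv hv0
  rcases A.cases4 P hv hv0 (hm v hv) with h | h | h | h
  · exact absurd (R.act_inj x (h.trans (R.act_zero x).symm)) hv0
  · exact h
  · exfalso
    have := hsq v hv
    rw [h, hc v hv, h, h2] at this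
    exact A.act_ne_zero P hv hv0 (by simpa using this)
  · exfalso
    have := hsq v hv
    rw [h, R.act_add, h, hc v hv, h, R.act_add, h2] at this
    have e : v + R.act (d o) v + (R.act (d o) v + (v + R.act (d o) v)) =
        R.act (d o) v + (v + v) + (R.act (d o) v + R.act (d o) v) := by abel
    rw [e, R.two, R.two, add_zero, add_zero] at this
    exact A.moved_ne P hv hv0 this

omit v hv hv0 in
/-- An involution normalising the plane fixes a nonzero vector. -/
theorem exists_fixed {x : Q}
    (hm : ∀ w ∈ piece R d (chr i), R.act x w ∈ piece R d (chr i))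
    (hsq : ∀ w ∈ piece R d (chr i), R.act x (R.act x w) = w) :
    ∃ w ∈ piece R d (chr i), w ≠ 0 ∧ R.act x w = w := by
  obtain ⟨v, hv, hv0⟩ := A.exists_ne_zero P
  by_cases h : v + R.act x v = 0
  · rw [add_eq_zero_iff_eq_neg, R.neg_eq] at h
    exact ⟨v, hv, hv0, h.symm⟩
  · exact ⟨_, AddSubgroup.add_mem _ hv (hm v hv), h, by
      rw [R.act_add, hsq v hv, add_comm]⟩

end Tri

end Cfsg.Agent.U62Rec
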