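import Cfsg.Agent.U62Rec.S36.Pieces
import Cfsg.Agent.U62Rec.S36.Group

/-!
# The eigenspaces of `r, a, b`

Four planes, or three planes and the fixed plane, possibly after changing `a, b` to `ab, ab²`; the
remaining split with a space of dimension 4 does not occur.
-/

set_option autoImplicit false
set_option maxRecDepth 100000

namespace Cfsg.Agent.U62Rec.S36

open Act3 (el piece sumMap Inp ev Plane)

variable {Q : Type*} [Group Q] {V : Type*} [AddCommGroup V]

/-- The four elements of a tuple. -/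
def dd (r a b : Q) : Fin 4 → Q := ![r, a, b, (r * a * b)⁻¹]

variable {R : Rep Q V} {r a b f u : Q}

theorem tri_of (C : Core r a b f u) : Tri R (dd r a b) := by
  have hc : Commute r a := C.ra
  have hd : Commute r b := C.rb
  have he : Commute a b := C.ab
  have c3 : Commute (r * a * b) r := ((Commute.refl r).mul_left hc.symm).mul_left hd.symm
  have c4 : Commute (r * a * b) a := (hc.mul_left (Commute.refl a)).mul_left he.symm
  have c5 : Commute (r * a * b) b := (hd.mul_left he).mul_left (Commute.refl b)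
  have hp : r * a * b * (r * a * b) * (r * a * b) = 1 := by
    have h : (r * a * b) ^ 3 = r ^ 3 * a ^ 3 * b ^ 3 := by
      rw [(hd.mul_left he).mul_pow, hc.mul_pow]
    simp only [pow_succ, pow_zero, one_mul] at h
    rw [h, C.r3, C.a3, C.b3, one_mul, one_mul]
  refine ⟨fun i => ?_, fun i j => ?_, by simp [dd]⟩
  · fin_cases i
    exacts [C.r3, C.a3, C.b3, by
      show (r * a * b)⁻¹ * (r * a * b)⁻¹ * (r * a * b)⁻¹ = 1
      rw [← mul_inv_rev, ← mul_inv_rev, inv_eq_one, ← mul_assoc, hp]]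
  · have key : ∀ i j : Fin 4, i ≤ j → Commute (dd r a b i) (dd r a b j) := by
      intro i j hij
      fin_cases i <;> fin_cases j <;> first
        | exact absurd hij (by decide)
        | exact Commute.refl _
        | exact hc
        | exact hd
        | exact he
        | exact c3.inv_left.symm
        | exact c4.inv_left.symm
        | exact c5.inv_left.symm
    rcases le_total i j with h | h
    exacts [key i j h, (key j i h).symm]

/-- The map of exponents induced by `f`. -/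
def fsig (t : Ex) : Ex := ![t 0, -t 2, t 1]

/-- Its inverse. -/
def fsig' (t : Ex) : Ex := ![t 0, t 2, -t 1]

theorem fsig_facts : ∀ t, fsig (fsig' t) = t ∧ fsig' (fsig t) = t := by decide +kernel

theorem f_el (C : Core r a b f u) (t : Ex) :
    f * el (dd r a b) t = el (dd r a b) (fsig t) * f := by
  have hr : SemiconjBy f r r := C.fr
  have ha : SemiconjBy f a b := C.fa
  have hb : SemiconjBy f b (a * a) := C.fb
  have e1 : (a * a) ^ (t 2).val = a ^ (-t 2).val := by
    have h3 : a ^ 3 = 1 := by rw [pow_succ, pow_two, C.a3]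
    have key : ∀ c : ZMod 3, (2 * c.val) % 3 = (-c).val := by decide
    rw [← pow_two, ← pow_mul, pow_eq_pow_mod _ h3, key]
  have h := ((hr.pow_right (t 0).val).mul_right (ha.pow_right (t 1).val)).mul_right
    (hb.pow_right (t 2).val)
  have e : f * (r ^ (t 0).val * a ^ (t 1).val * b ^ (t 2).val) =
      r ^ (t 0).val * b ^ (t 1).val * (a * a) ^ (t 2).val * f := h
  show f * (r ^ (t 0).val * a ^ (t 1).val * b ^ (t 2).val) =
    r ^ (t 0).val * a ^ (-t 2).val * b ^ (t 1).val * f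
  rw [e, e1, mul_assoc (r ^ (t 0).val),
    ((show Commute b a from C.ab.symm).pow_pow (t 1).val (-t 2).val).eq, ← mul_assoc]

theorem f_mem (C : Core r a b f u) {x y : Ex} (h : ∀ t, dot x (fsig' t) = 0 ↔ dot y t = 0) {v : V}
    (hv : v ∈ piece R (dd r a b) x) : R.act f v ∈ piece R (dd r a b) y := by
  intro t
  have e : ∀ w, R.act (el (dd r a b) t) (R.act f w) =
      R.act f (R.act (el (dd r a b) (fsig' t)) w) := fun w => by
    rw [← R.act_mul, ← R.act_mul, f_el C, (fsig_facts t).1]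
  constructor
  · intro ht
    rw [e, (hv _).1 ((h t).2 ht)]
  · intro ht
    rw [Rep.F, e, e, ← R.act_add, ← R.act_add]
    have := (hv (fsig' t)).2 fun h' => ht ((h t).1 h')
    rw [Rep.F] at this
    rw [this, R.act_zero]

theorem f_card (C : Core r a b f u) {x y : Ex} (h : ∀ t, dot x (fsig' t) = 0 ↔ dot y t = 0)
    (h' : ∀ t, dot x t = 0 ↔ dot y (fsig t) = 0) :
    Nat.card ↥(piece R (dd r a b) x) = Nat.card ↥(piece R (dd r a b) y) := by
  have hinv : ∀ w, R.act f (R.act (f * f * f) w) = w ∧ R.act (f * f * f) (R.act f w) = w := fun w => by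
    refine ⟨?_, ?_⟩ <;> rw [← R.act_mul] <;> [rw [show f * (f * f * f) = f * f * (f * f) by group];
      rw [show f * f * f * f = f * f * (f * f) by group]] <;> rw [C.f4, R.act_one]
  refine Nat.card_congr
    { toFun := fun v => ⟨R.act f v, f_mem C h v.2⟩
      invFun := fun v => ⟨R.act (f * f * f) v, ?_⟩
      left_inv := fun v => Subtype.ext (hinv v).2
      right_inv := fun v => Subtype.ext (hinv v).1 }
  intro t
  have e : ∀ w, R.act (el (dd r a b) t) (R.act (f * f * f) w) =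
      R.act (f * f * f) (R.act (el (dd r a b) (fsig t)) w) := fun w => by
    refine R.act_inj f ?_
    rw [(hinv _).1, ← R.act_mul, f_el C, R.act_mul, (hinv _).1]
  constructor
  · intro ht
    rw [e, (v.2 (fsig t)).1 ((h' t).1 ht)]
  · intro ht
    rw [Rep.F, e, e, ← R.act_add, ← R.act_add]
    have := (v.2 (fsig t)).2 fun hh => ht ((h' t).2 hh)
    rw [Rep.F] at this
    rw [this, R.act_zero]

/-- The number of elements of an eigenspace other than the fixed one. -/
theorem card_good (A : Tri R (dd r a b)) {i : Fin 14} (hi : i ≠ 0) :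
    Nat.card ↥(piece R (dd r a b) (chr i)) ∈ ({1, 4, 16, 64, 256} : Finset ℕ) := by
  classical
  have hVf : Finite V := Nat.finite_of_card_ne_zero (by rw [R.card]; norm_num)
  set W := piece R (dd r a b) (chr i)
  obtain ⟨-, -, h3, -⟩ := kb_ok i hi
  set o := el (dd r a b) (kb i).2.2
  have := Fintype.ofFinite ↥W
  have o3 : ∀ v, R.act o (R.act o (R.act o v)) = v := fun v => by
    rw [← R.act_mul, ← R.act_mul, A.el_cube, R.act_one]
  let σ : Equiv.Perm ↥W :=
    { toFun := fun v => ⟨R.act o v, A.act_el_mem v.2 _⟩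
      invFun := fun v => ⟨R.act o (R.act o v), A.act_el_mem (A.act_el_mem v.2 _) _⟩
      left_inv := fun v => Subtype.ext (o3 v)
      right_inv := fun v => Subtype.ext (o3 v) }
  have : Fact (Nat.Prime 3) := ⟨Nat.prime_three⟩
  let σ' : Function.End ↥W := ⇑σ
  have hσ : σ' ^ 3 ^ 1 = 1 := by
    rw [pow_one, pow_succ, pow_two]
    funext v
    show σ (σ (σ v)) = v
    exact Subtype.ext (o3 v)
  have hmod : Fintype.card ↥(Function.fixedPoints σ) ≡ Fintype.card ↥W [MOD 3] :=
    (Equiv.Perm.card_fixedPoints_modEq hσ).symm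
  have hfp : Fintype.card ↥(Function.fixedPoints σ) = 1 := by
    refine Fintype.card_eq_one_iff.2 ⟨⟨0, Subtype.ext (R.act_zero o)⟩, fun x => Subtype.ext (Subtype.ext ?_)⟩
    have h1 : R.act o (x : ↥W) = ((x : ↥W) : V) := congrArg Subtype.val x.2
    exact (R.F_of_fix h1).symm.trans ((x : ↥W).2 _ |>.2 h3)
  rw [hfp, ← Nat.card_eq_fintype_card] at hmod
  have hd : Nat.card ↥W ∣ 2 ^ 8 := by
    rw [show (2 : ℕ) ^ 8 = 256 by norm_num, ← R.card]
    exact W.card_addSubgroup_dvd_card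
  obtain ⟨k, hk, e⟩ := (Nat.dvd_prime_pow Nat.prime_two).1 hd
  rw [e] at hmod ⊢
  interval_cases k <;> simp [Nat.ModEq] at hmod ⊢

/-- The cases. -/
def IsT (R : Rep Q V) (r a b : Q) : Prop := Nat.card ↥(piece R (dd r a b) (chr 3)) = 4
/-- Three planes and the fixed plane. -/
def IsR (R : Rep Q V) (r a b : Q) : Prop :=
  Nat.card ↥(piece R (dd r a b) (chr 11)) = 4 ∧ Nat.card ↥(piece R (dd r a b) (chr 12)) = 4 ∧
    Nat.card ↥(piece R (dd r a b) (chr 0)) = 4
/-- Two planes and a space of dimension 4. -/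
def IsX (R : Rep Q V) (r a b : Q) : Prop :=
  Nat.card ↥(piece R (dd r a b) (chr 11)) = 16 ∧ Nat.card ↥(piece R (dd r a b) (chr 12)) = 4

theorem fix_of_triv (A : Tri R (dd r a b)) {g : V → V} (hadd : ∀ v w, g (v + w) = g v + g w)
    (hg : ∀ i, ∀ v ∈ piece R (dd r a b) (chr i), g v = v) (v : V) : g v = v := by
  let F : AddSubgroup V := (AddMonoidHom.mk' g hadd).eqLocus (AddMonoidHom.id V)
  have h : (⨆ i, piece R (dd r a b) (chr i)) ≤ F := iSup_le fun i x hx => hg i x hx
  exact h (A.span v)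

theorem rf_chr : ∀ (i : Fin 14) (k : Fin 4), k ∈ [0, 1] →
    (k = 0 → i ∉ [2, 3, 4, 5, 6, 7, 8, 9, 11] → dot (chr i) (Act3.ev 0) = 0) ∧
    (k = 1 → i ∉ [1, 3, 4, 5, 6, 7, 8, 10, 12] → dot (chr i) (Act3.ev 1) = 0) := by decide +kernel

/-- Why some cards cannot all be one. -/
theorem exists_moved (A : Tri R (dd r a b)) {k : Fin 4} (hne : dd r a b k ≠ 1) :
    ∃ i, dot (chr i) (Act3.ev k) ≠ 0 ∧ Nat.card ↥(piece R (dd r a b) (chr i)) ≠ 1 := by
  by_contra h
  push Not at h
  refine hne (R.faith _ fun v => fix_of_triv A (R.act_add _) (fun i w hw => ?_) v)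
  by_cases hd : dot (chr i) (Act3.ev k) = 0
  · exact A.d_fix hw hd
  · have := (Nat.card_eq_one_iff_unique.1 (h i hd)).1
    have e : w = 0 := congrArg Subtype.val (Subsingleton.elim (⟨w, hw⟩ : ↥(piece R (dd r a b) (chr i))) 0)
    rw [e, R.act_zero]

/-- The possible numbers. -/
theorem split (C : Core r a b f u) :
    Nat.card ↥(piece R (dd r a b) (chr 3)) = 4 ∨ Nat.card ↥(piece R (dd r a b) (chr 7)) = 4 ∨
    (Nat.card ↥(piece R (dd r a b) (chr 11)) = 4 ∧ Nat.card ↥(piece R (dd r a b) (chr 0)) = 4 ∧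
      (Nat.card ↥(piece R (dd r a b) (chr 12)) = 4 ∨ Nat.card ↥(piece R (dd r a b) (chr 1)) = 4)) ∨
    (Nat.card ↥(piece R (dd r a b) (chr 11)) = 16 ∧
      (Nat.card ↥(piece R (dd r a b) (chr 12)) = 4 ∨ Nat.card ↥(piece R (dd r a b) (chr 1)) = 4)) := by
  have A : Tri R (dd r a b) := tri_of C
  have hVf : Finite V := Nat.finite_of_card_ne_zero (by rw [R.card]; norm_num)
  set c : Fin 14 → ℕ := fun i => Nat.card ↥(piece R (dd r a b) (chr i)) with hcdef
  have sw : ∀ i j : Fin 14, (∀ t, (dot (chr i) (fsig' t) = 0 ↔ dot (chr j) t = 0)) →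
      (∀ t, dot (chr i) t = 0 ↔ dot (chr j) (fsig t) = 0) → c i = c j :=
    fun i j h h' => f_card C h h'
  have e32 : c 3 = c 2 := sw 3 2 (by decide +kernel) (by decide +kernel)
  have e28 : c 2 = c 8 := sw 2 8 (by decide +kernel) (by decide +kernel)
  have e89 : c 8 = c 9 := sw 8 9 (by decide +kernel) (by decide +kernel)
  have e46 : c 4 = c 6 := sw 4 6 (by decide +kernel) (by decide +kernel)
  have e67 : c 6 = c 7 := sw 6 7 (by decide +kernel) (by decide +kernel)
  have e75 : c 7 = c 5 := sw 7 5 (by decide +kernel) (by decide +kernel)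
  have ecd : c 12 = c 13 := sw 12 13 (by decide +kernel) (by decide +kernel)
  have e1a : c 1 = c 10 := sw 1 10 (by decide +kernel) (by decide +kernel)
  have hp := A.card_eq
  change ∏ i, c i = 256 at hp
  simp only [Fin.prod_univ_succ, Fin.prod_univ_zero, mul_one] at hp
  change c 0 * (c 1 * (c 2 * (c 3 * (c 4 * (c 5 * (c 6 * (c 7 * (c 8 * (c 9 * (c 10 * (c 11 *
    (c 12 * c 13)))))))))))) = 256 at hp
  rw [← ecd, ← e1a, ← e75, ← e67, ← e46, ← e89, ← e28, ← e32] at hp
  have hp' : c 0 * c 11 * (c 12 ^ 2 * c 1 ^ 2) * (c 3 ^ 4 * c 4 ^ 4) = 256 := by rw [← hp]; ring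
  have good : ∀ i, i ≠ 0 → c i ∈ ({1, 4, 16, 64, 256} : Finset ℕ) := fun i hi => card_good A hi
  have hpos : ∀ i, 1 ≤ c i := fun i => Nat.card_pos
  show c 3 = 4 ∨ c 7 = 4 ∨ (c 11 = 4 ∧ c 0 = 4 ∧ (c 12 = 4 ∨ c 1 = 4)) ∨
    (c 11 = 16 ∧ (c 12 = 4 ∨ c 1 = 4))
  have small : ∀ i : Fin 14, (i = 3 ∨ i = 4) → c i ≠ 1 → c i = 4 := by
    intro i hi h1
    have hdvd : c i ^ 4 ∣ 256 := by
      rw [← hp']
      rcases hi with rfl | rfl
      · exact Dvd.dvd.mul_left (dvd_mul_right _ _) _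
      · exact Dvd.dvd.mul_left (dvd_mul_left _ _) _
    have hle := Nat.le_of_dvd (by norm_num) hdvd
    have h' := good i (by rcases hi with rfl | rfl <;> decide)
    simp only [Finset.mem_insert, Finset.mem_singleton] at h'
    rcases h' with e | e | e | e | e <;> rw [e] at hle <;> first | exact absurd e h1 | exact e |
      norm_num at hle
  by_cases h3 : c 3 = 1
  swap
  · exact Or.inl (small 3 (Or.inl rfl) h3)
  by_cases h4 : c 4 = 1
  swap
  · exact Or.inr (Or.inl (e67 ▸ e46 ▸ small 4 (Or.inr rfl) h4))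
  rw [h3, h4, one_pow, one_mul, mul_one] at hp'
  have h11 : c 11 ≠ 1 := by
    obtain ⟨i, hi, hi'⟩ := exists_moved A (k := 0) C.r_ne
    intro e
    have key : ∀ i : Fin 14, dot (chr i) (Act3.ev 0) ≠ 0 → i ∈ [2, 3, 4, 5, 6, 7, 8, 9, 11] := by
      decide +kernel
    have := key i hi
    apply hi'
    change c i = 1
    fin_cases this
    exacts [e32 ▸ h3, h3, h4, e75 ▸ e67 ▸ e46 ▸ h4, e46 ▸ h4, e67 ▸ e46 ▸ h4, e28 ▸ e32 ▸ h3,
      e89 ▸ e28 ▸ e32 ▸ h3, e]
  have hpair : c 12 ≠ 1 ∨ c 1 ≠ 1 := by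
    obtain ⟨i, hi, hi'⟩ := exists_moved A (k := 1) C.a_ne
    by_contra hn
    push Not at hn
    have key : ∀ i : Fin 14, dot (chr i) (Act3.ev 1) ≠ 0 → i ∈ [1, 3, 4, 5, 6, 7, 8, 10, 12] := by
      decide +kernel
    have := key i hi
    apply hi'
    change c i = 1
    fin_cases this
    exacts [hn.2, h3, h4, e75 ▸ e67 ▸ e46 ▸ h4, e46 ▸ h4, e67 ▸ e46 ▸ h4, e28 ▸ e32 ▸ h3, e1a ▸ hn.2, hn.1]
  have g11 := good 11 (by decide)
  have g12 := good 12 (by decide)
  have g1 := good 1 (by decide)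
  simp only [Finset.mem_insert, Finset.mem_singleton] at g11 g12 g1
  have h0 := hpos 0
  have key : ∀ (p q s t : ℕ), q ∈ [1, 4, 16, 64, 256] → s ∈ [1, 4, 16, 64, 256] →
      t ∈ [1, 4, 16, 64, 256] → q ≠ 1 → (s ≠ 1 ∨ t ≠ 1) → p * q * (s ^ 2 * t ^ 2) = 256 →
      (q = 4 ∧ p = 4 ∧ (s = 4 ∨ t = 4)) ∨ (q = 16 ∧ (s = 4 ∨ t = 4)) := by
    intro p q s t hq hs ht h1 h2 h
    simp only [List.mem_cons, List.not_mem_nil, or_false] at hq hs ht
    rcases hq with rfl | rfl | rfl | rfl | rfl <;> rcases hs with rfl | rfl | rfl | rfl | rfl <;>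
      rcases ht with rfl | rfl | rfl | rfl | rfl <;> 
      first | exact absurd rfl h1 | omega | (norm_num at h <;> omega)
  exact Or.inr (Or.inr (key (c 0) (c 11) (c 12) (c 1) (by simpa using g11) (by simpa using g12)
    (by simpa using g1) h11 hpair hp'))

theorem theta_facts : ∀ (j i : Fin 14) (t : Ex), (j, i) ∈ [((3 : Fin 14), (7 : Fin 14)), (12, 1), (11, 11), (0, 0)] →
    (dot (chr j) t = 0 ↔ dot (chr i) ![t 0, t 1 + t 2, t 1 - t 2] = 0) := by decide +kernel

theorem theta_surj : ∀ t : Ex, ∃ t' : Ex, ![t' 0, t' 1 + t' 2, t' 1 - t' 2] = t := by decide +kernel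

/-- Changing `a, b` to `ab, ab²`. -/
theorem theta_piece {r' a' b' : Q} (C : Core r a b f u) (hr : r' = r) (ha : a' = a * b)
    (hb : b' = a * (b * b)) {j i : Fin 14} (hji : (j, i) ∈ [((3 : Fin 14), (7 : Fin 14)), (12, 1), (11, 11), (0, 0)]) :
    piece R (dd r' a' b') (chr j) = piece R (dd r a b) (chr i) := by
  rw [hr, ha, hb]
  have hel : ∀ t : Ex, el (dd r (a * b) (a * (b * b))) t =
      el (dd r a b) ![t 0, t 1 + t 2, t 1 - t 2] := by
    have ha3 : a ^ 3 = 1 := by rw [pow_succ, pow_two, C.a3]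
    have hb3 : b ^ 3 = 1 := by rw [pow_succ, pow_two, C.b3]
    intro t
    have k1 : ∀ p q : ZMod 3, (p.val + q.val) % 3 = (p + q).val := by decide
    have k2 : ∀ p q : ZMod 3, (p.val + 2 * q.val) % 3 = (p - q).val := by decide
    have e2 : b * b = b ^ 2 := (pow_two b).symm
    show r ^ (t 0).val * (a * b) ^ (t 1).val * (a * (b * b)) ^ (t 2).val =
      r ^ (t 0).val * a ^ (t 1 + t 2).val * b ^ (t 1 - t 2).val
    have hab : Commute a b := C.ab
    rw [hab.mul_pow, (hab.mul_right hab).mul_pow, e2, ← pow_mul, ← k1, ← k2, ← pow_eq_pow_mod _ ha3,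
      ← pow_eq_pow_mod _ hb3, pow_add, pow_add]
    simp only [← mul_assoc]
    congr 1
    rw [mul_assoc (r ^ (t 0).val * a ^ (t 1).val), ← (hab.pow_pow (t 2).val (t 1).val).eq, ← mul_assoc]
  ext v
  rw [Act3.mem_piece, Act3.mem_piece]
  constructor
  · intro h t'
    obtain ⟨t, rfl⟩ := theta_surj t'
    rw [← hel, ne_eq, ← theta_facts j i t hji]
    exact h t
  · intro h t
    rw [hel, ne_eq, theta_facts j i t hji]
    exact h _

/-- One of two tuples gives one of the three cases. -/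
theorem cases3 {r' a' b' f' u' : Q} (C : Core r a b f u) (C' : Core r' a' b' f' u') (hr : r' = r)
    (ha : a' = a * b) (hb : b' = a * (b * b)) :
    (IsT R r a b ∨ IsR R r a b ∨ IsX R r a b) ∨ (IsT R r' a' b' ∨ IsR R r' a' b' ∨ IsX R r' a' b') := by
  have t3 : piece R (dd r' a' b') (chr 3) = _ := theta_piece C hr ha hb (i := 7) (by simp)
  have t12 : piece R (dd r' a' b') (chr 12) = _ := theta_piece C hr ha hb (i := 1) (by simp)
  have t11 : piece R (dd r' a' b') (chr 11) = _ := theta_piece C hr ha hb (i := 11) (by simp)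
  have t0 : piece R (dd r' a' b') (chr 0) = _ := theta_piece C hr ha hb (i := 0) (by simp)
  simp only [IsT, IsR, IsX, t3, t12, t11, t0]
  rcases split (R := R) C with h | h | ⟨h, h', h'' | h''⟩ | ⟨h, h' | h'⟩
  · exact Or.inl (Or.inl h)
  · exact Or.inr (Or.inl h)
  · exact Or.inl (Or.inr (Or.inl ⟨h, h'', h'⟩))
  · exact Or.inr (Or.inr (Or.inl ⟨h, h'', h'⟩))
  · exact Or.inl (Or.inr (Or.inr ⟨h, h'⟩))
  · exact Or.inr (Or.inr (Or.inr ⟨h, h'⟩))

end Cfsg.Agent.U62Rec.S36
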